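import Cfsg.Agent.FiLargest.Transfer
import Cfsg.Agent.USixType.Ext.Main

/-!
The three cases for the part of the centraliser inside the residual.
-/

set_option autoImplicit false
set_option maxRecDepth 100000
set_option maxHeartbeats 1000000
set_option linter.unusedSectionVars false
set_option linter.style.haveILetI false

namespace Cfsg.Lib.FiLargest

open Subgroup
open scoped Pointwise
open Cfsg.Lib.LargeExtra (X2)
open Cfsg.Lib.LargeExtra.OutExtra
open scoped commutatorElement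

universe u

/-- The part of the centraliser in the residual. -/
abbrev ResC {G : Type u} [Group G] (z : G) : Subgroup ↥(Cn z) := (Res G).subgroupOf (Cn z)

namespace Ctx

variable {G : Type u} [Group G] [Finite G] {z : G} (c : Ctx z)

theorem semi_out {g : G} {x : ↥(J z)} (hg : g * z * g⁻¹ = ((x : ↥(Cn z)) : G)) (hxz : ((x : ↥(Cn z)) : G) ≠ z)
    {r : ↥(Cn z)} (hr : r ∈ c.RC g) (hrK : r ∉ c.K) : r ∉ c.HL := fun h => hrK (c.linear_le hg hxz hr h)

/-- The intersections lie in a single coset. -/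
theorem RC_coset {g g' : G} {x x' : ↥(J z)} (hg : g * z * g⁻¹ = ((x : ↥(Cn z)) : G))
    (hxz : ((x : ↥(Cn z)) : G) ≠ z) (hg' : g' * z * g'⁻¹ = ((x' : ↥(Cn z)) : G))
    (hxz' : ((x' : ↥(Cn z)) : G) ≠ z) {r r' : ↥(Cn z)} (hr : r ∈ c.RC g) (hrK : r ∉ c.K)
    (hr' : r' ∈ c.RC g') (hrK' : r' ∉ c.K) : r⁻¹ * r' ∈ c.K := by
  haveI := c.Kn
  have hqx : ∀ {g : G} {x : ↥(J z)}, g * z * g⁻¹ = ((x : ↥(Cn z)) : G) → ((x : ↥(Cn z)) : G) ≠ z →
      c.F.q (c.pt x) = 0 ∧ c.pt x ≠ 0 := fun {g x} hg hxz => by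
    refine c.sing x.2 (orderOf_eq_prime (hp := ⟨Nat.prime_two⟩) (Subtype.ext ?_) (c.x_ne hg)) hxz
    rw [pow_two, Subgroup.coe_mul, OneMemClass.coe_one, ← hg,
      show g * z * g⁻¹ * (g * z * g⁻¹) = g * (z * z) * g⁻¹ by group, c.X2g.zz, mul_one, mul_inv_cancel]
  obtain ⟨h1, h2⟩ := hqx hg hxz
  obtain ⟨h1', h2'⟩ := hqx hg' hxz'
  obtain ⟨y, hy⟩ := ((c.small_iff h1 h2).2 (c.not_small hg hxz)).2 _ h1' h2' (c.not_small hg' hxz')
  obtain ⟨k, hk, -, hyk⟩ := c.exists_lift y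
  obtain ⟨h, hh, -, hK⟩ := c.conj_of_rep k x x' (by rw [← hyk]; exact hy) hxz (c.x_ne hg)
  have hhK : h ∈ c.K := hK hk
  have hg'' : ((h : G) * g) * z * ((h : G) * g)⁻¹ = ((x' : ↥(Cn z)) : G) := by
    rw [← hh]
    simp only [Subgroup.coe_mul, Subgroup.coe_inv]
    rw [← hg]; group
  set g'' := (h : G) * g with hg''d
  have hd : g'⁻¹ * g'' ∈ Cn z := mem_centralizer_singleton_iff.mpr (by
    calc g'⁻¹ * g'' * z = g'⁻¹ * (g'' * z * g''⁻¹) * g'' := by group
      _ = g'⁻¹ * (g' * z * g'⁻¹) * g'' := by rw [hg'', hg']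
      _ = z * (g'⁻¹ * g'') := by group)
  have hr'' : r' ∈ c.RC g'' := by
    rw [c.mem_RC] at hr' ⊢
    have h := (mem_normalizer_iff''.mp (c.CN hd) _).mp hr'
    convert h using 1
    group
  set s := h⁻¹ * r' * h with hs
  have hsR : s ∈ c.RC g := (c.RC_conjugate h).mp (by rw [hs, show h * (h⁻¹ * r' * h) * h⁻¹ = r' by group]; exact hr'')
  have hsK : s ∉ c.K := fun hs' => hrK' (by
    have := c.Kn.conj_mem s hs' h
    rwa [hs, show h * (h⁻¹ * r' * h) * h⁻¹ = r' by group] at this)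
  have hrL := c.semi_out hg hxz hr hrK
  have hidx : c.HL.index = 2 := c.HL_index.resolve_left fun e => hrL (e ▸ mem_top r)
  have hL : r⁻¹ * s ∈ c.HL := (mul_mem_iff_of_index_two hidx).mpr
    (iff_of_false (fun h => hrL (inv_mem_iff.mp h)) (c.semi_out hg hxz hsR hsK))
  have hrs := c.linear_le hg hxz (mul_mem (inv_mem hr) hsR) hL
  have e : r⁻¹ * r' = (r⁻¹ * h * r) * (r⁻¹ * s) * h⁻¹ := by rw [hs]; group
  rw [e]
  refine mul_mem (mul_mem ?_ hrs) (inv_mem hhK)
  simpa using c.Kn.conj_mem h hhK r⁻¹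

include c in
theorem RC_le_res (g : G) : c.RC g ≤ ResC z := fun r hr => by
  have h := Normal.conj_mem (H := Res G) inferInstance _ (c.J_le_res (c.mem_RC.mp hr)) g
  simpa [mem_subgroupOf, mul_assoc] using h

/-- A conjugate in the core by an element of the residual. -/
theorem res_fusion (hne : ¬ ResC z ≤ c.K) :
    c.K.relIndex (ResC z) = 2 ∧ ∃ g ∈ Res G, ∃ x : ↥(J z),
      g * z * g⁻¹ = ((x : ↥(Cn z)) : G) ∧ ((x : ↥(Cn z)) : G) ≠ z := by
  classical
  haveI := c.Kn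
  have hmul := relIndex_mul_index c.K_le_res
  have hdvd : c.K.relIndex (ResC z) ∣ 4 := (Dvd.intro _ hmul).trans c.index_K.2
  have h1 : c.K.relIndex (ResC z) ≠ 1 := fun e => hne (relIndex_eq_one.mp e)
  have h2 : c.K.relIndex (ResC z) = 2 := by
    rcases (show c.K.relIndex (ResC z) = 2 ∨ c.K.relIndex (ResC z) = 4 by
      have := Nat.le_of_dvd (by norm_num) hdvd
      generalize c.K.relIndex (ResC z) = n at hdvd h1 this
      interval_cases n <;> omega) with e | e
    · exact e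
    exfalso
    have hI : c.K.index = 4 ∧ (ResC z).index = 1 := by
      have h4 := c.index_K.1
      have hne0 : (ResC z).index ≠ 0 := index_ne_zero_of_finite
      rw [e] at hmul
      change 4 * (ResC z).index = c.K.index at hmul
      omega
    have htop : ResC z = ⊤ := index_eq_one.mp hI.2
    suffices ∃ H : Subgroup ↥(Cn z), H.index = 2 ∧ ∀ g : G, ∀ x : ↥(J z),
        g * z * g⁻¹ = ((x : ↥(Cn z)) : G) → ((x : ↥(Cn z)) : G) ≠ z → ∀ r ∈ c.RC g, r ∈ H by
      obtain ⟨H, hH, hflat⟩ := this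
      exact c.transfer_false (Res G) c.J_le_res (res_res G) H
        (by rw [show (Res G).subgroupOf (Cn z) = ⊤ from htop, relIndex_top_right, hH])
        fun g _ x hg hxz r hr _ => hflat g x hg hxz r hr
    by_cases hex : ∃ g : G, ∃ x : ↥(J z), g * z * g⁻¹ = ((x : ↥(Cn z)) : G) ∧ ((x : ↥(Cn z)) : G) ≠ z
    · obtain ⟨g, x, hg, hxz⟩ := hex
      obtain ⟨r, hr, hrK⟩ := c.exists_outside_K hg hxz
      let H := (zpowers (QuotientGroup.mk' c.K r)).comap (QuotientGroup.mk' c.K)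
      have hord : orderOf (QuotientGroup.mk' c.K r) = 2 := by
        refine orderOf_eq_prime (hp := ⟨Nat.prime_two⟩) ?_ fun h => hrK ((QuotientGroup.eq_one_iff r).mp h)
        rw [pow_two, ← map_mul, QuotientGroup.mk'_apply, QuotientGroup.eq_one_iff]
        rcases c.RC_sq hg hr with e | e <;> rw [e]
        exacts [one_mem _, c.JK x.2]
      refine ⟨H, ?_, fun g' x' hg' hxz' r' hr' => ?_⟩
      · rw [index_comap_of_surjective _ (QuotientGroup.mk'_surjective _)]
        have h := (zpowers (QuotientGroup.mk' c.K r)).card_mul_index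
        rw [Nat.card_zpowers, hord, ← index_eq_card, hI.1] at h
        omega
      · rw [mem_comap]
        by_cases hrK' : r' ∈ c.K
        · rw [show QuotientGroup.mk' c.K r' = 1 from (QuotientGroup.eq_one_iff r').mpr hrK']
          exact one_mem _
        · have : QuotientGroup.mk' c.K r = QuotientGroup.mk' c.K r' :=
            QuotientGroup.eq.mpr (c.RC_coset hg hxz hg' hxz' hr hrK hr' hrK')
          show QuotientGroup.mk' c.K r' ∈ zpowers (QuotientGroup.mk' c.K r)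
          exact this ▸ mem_zpowers _
    · refine ⟨c.HL, c.HL_index.resolve_left fun e' => ?_, fun g x hg hxz => absurd ⟨g, x, hg, hxz⟩ hex⟩
      have h := c.index_HL_K
      change c.K.relIndex c.HL ≤ 2 at h
      rw [e', relIndex_top_right, hI.1] at h
      omega
  refine ⟨h2, ?_⟩
  by_contra hn
  exact c.transfer_false (Res G) c.J_le_res (res_res G) c.K h2
    fun g hg x hx hxz => absurd ⟨g, hg, x, hx, hxz⟩ hn

/-- A Sylow subgroup of the residual whose centre is that of the core. -/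
theorem exists_sylow : ∃ P : Sylow 2 ↥(Res G),
    (⟨z, c.J_le_res c.X2g.mem⟩ : ↥(Res G)) ∈ (P : Subgroup ↥(Res G)) ∧
    (∀ a ∈ (P : Subgroup ↥(Res G)), Commute a ⟨z, c.J_le_res c.X2g.mem⟩) ∧
    ∀ w ∈ (P : Subgroup ↥(Res G)), (∀ a ∈ (P : Subgroup ↥(Res G)), Commute a w) → w ≠ 1 → (w : G) = z := by
  haveI : Fact (Nat.Prime 2) := ⟨Nat.prime_two⟩
  obtain ⟨P, hP⟩ := (c.X2g.isP.comap_subtype (K := Res G)).exists_le_sylow
  have hcen : ∀ w ∈ (P : Subgroup ↥(Res G)), (∀ a ∈ (P : Subgroup ↥(Res G)), Commute a w) → w ≠ 1 → (w : G) = z := by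
    intro w _ hw hw1
    have hJ : ∀ a ∈ Jg z, Commute a (w : G) := fun a ha =>
      congrArg Subtype.val (hw ⟨a, c.J_le_res ha⟩ (hP ha)).eq
    have hwJ : (w : G) ∈ Jg z := c.CQ (mem_centralizer_iff.mpr fun a ha => (hJ a ha).eq)
    exact (c.X2g.cen _ hwJ hJ).resolve_left fun e => hw1 (Subtype.ext e)
  have hzP := hP (show (⟨z, c.J_le_res c.X2g.mem⟩ : ↥(Res G)) ∈ (Jg z).subgroupOf (Res G) from c.X2g.mem)
  refine ⟨P, hzP, fun a ha => ?_, hcen⟩
  haveI : Nontrivial ↥(P : Subgroup ↥(Res G)) := ⟨⟨⟨_, hzP⟩, 1, fun e => c.X2g.ne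
    (congrArg (fun q : ↥(P : Subgroup ↥(Res G)) => ((q : ↥(Res G)) : G)) e)⟩⟩
  haveI := P.2.center_nontrivial
  obtain ⟨w, hw⟩ := exists_ne (1 : ↥(center ↥(P : Subgroup ↥(Res G))))
  have hwc : ∀ b ∈ (P : Subgroup ↥(Res G)), Commute b ((w : ↥(P : Subgroup ↥(Res G))) : ↥(Res G)) := fun b hb =>
    congrArg (fun q : ↥(P : Subgroup ↥(Res G)) => (q : ↥(Res G))) (mem_center_iff.mp w.2 ⟨b, hb⟩)
  have hwz := hcen _ w.1.2 hwc fun e => hw (Subtype.ext (Subtype.ext e))
  have h := hwc a ha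
  rwa [show ((w : ↥(P : Subgroup ↥(Res G))) : ↥(Res G)) = ⟨z, c.J_le_res c.X2g.mem⟩ from Subtype.ext hwz] at h

include c in
/-- The residual supplements the centraliser. -/
theorem sup_eq_top : Res G ⊔ Cn z = ⊤ := by
  haveI : Fact (Nat.Prime 2) := ⟨Nat.prime_two⟩
  obtain ⟨P, hzP, hPz, hcen⟩ := c.exists_sylow
  refine eq_top_iff.mpr fun g _ => ?_
  let φ : MulAut ↥(Res G) := MulAut.conjNormal g
  obtain ⟨h, hh⟩ := MulAction.exists_smul_eq ↥(Res G) (φ • P) P
  set w : ↥(Res G) := h * φ ⟨z, c.J_le_res c.X2g.mem⟩ * h⁻¹ with hw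
  let e : MulAut ↥(Res G) := MulAut.conj h * φ
  have hmem : ∀ a, a ∈ (P : Subgroup ↥(Res G)) → e a ∈ (P : Subgroup ↥(Res G)) := fun a ha => by
    rw [← hh]
    exact smul_mem_pointwise_smul (φ a) (MulAut.conj h) _ (smul_mem_pointwise_smul a φ _ ha)
  have hwz : (w : G) = z := by
    refine hcen w (hmem _ hzP) (fun a ha => ?_) fun e1 => c.X2g.ne ?_
    · obtain ⟨b, hb, rfl⟩ : ∃ b ∈ (P : Subgroup ↥(Res G)), e b = a := by
        have hinj : (P : Subgroup ↥(Res G)).map e.toMonoidHom = P :=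
          eq_of_le_of_card_ge (by rintro _ ⟨b, hb, rfl⟩; exact hmem b hb)
            (card_map_of_injective e.injective).ge
        exact hinj.ge ha
      exact (hPz b hb).map e
    · have h1 : e ⟨z, c.J_le_res c.X2g.mem⟩ = 1 := e1
      exact congrArg Subtype.val (e.injective (h1.trans (map_one e).symm))
  have hC : (h : G) * g ∈ Cn z := mem_centralizer_singleton_iff.mpr (by
    have hwz' : (h : G) * (g * z * g⁻¹) * (h : G)⁻¹ = z := by
      rw [hw] at hwz
      simpa [φ, MulAut.conjNormal_apply] using hwz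
    calc (h : G) * g * z = (h : G) * (g * z * g⁻¹) * (h : G)⁻¹ * ((h : G) * g) := by group
      _ = z * ((h : G) * g) := by rw [hwz'])
  have := mul_mem (mem_sup_left (T := Cn z) (inv_mem h.2)) (mem_sup_right (S := Res G) hC)
  simpa using this

include c in
theorem res_index : (Res G).index = (ResC z).index := by
  show _ = (Res G).relIndex (Cn z)
  rw [← relIndex_sup_left (K := Res G), c.sup_eq_top, relIndex_top_right]

/-- Case of an isolated involution. -/
theorem isolated_case (h : ResC z ≤ c.K) : Cn z ⊔ Cfsg.oddCore G = ⊤ := by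
  classical
  let z1 : ↥(Res G) := ⟨z, c.J_le_res c.X2g.mem⟩
  have hiso : Cfsg.IsIsolatedInvolution z1 := by
    refine ⟨by rw [← orderOf_injective (Res G).subtype (Res G).subtype_injective z1]; exact c.hz, fun g hg => ?_⟩
    exact Subtype.ext (c.isolated_in (Res G) c.J_le_res (fun k hk => h hk) g.2 (congrArg Subtype.val hg.eq))
  have hzs := Cfsg.Lib.ZStarApps.zstarProp hiso
  haveI : (Cfsg.pPrimeCore 2 ↥(Res G)).Characteristic := Cfsg.Lib.Components.pPrimeCore_characteristic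
  let O := (Cfsg.pPrimeCore 2 ↥(Res G)).map (Res G).subtype
  haveI : O.Normal := inferInstance
  have hodd : Odd (Nat.card O) := by
    rw [card_map_of_injective (Res G).subtype_injective]
    exact Cfsg.Lib.ZStarApps.odd_card_pPrimeCore
  have hO1 : ∀ a ∈ O, a * a = 1 → a = 1 := fun a ha h2 => by
    have h3 : orderOf a ∣ 2 := orderOf_dvd_of_pow_eq_one (by rw [pow_two, h2])
    have h4 : orderOf a ∣ Nat.card O := by
      rw [← orderOf_mk a ha]; exact orderOf_dvd_natCard _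
    exact orderOf_eq_one_iff.mp (Nat.eq_one_of_dvd_coprimes (Nat.coprime_two_left.mpr hodd) h3 h4)
  have hOJ : ∀ a ∈ O, a ∈ Jg z → a = 1 := fun a ha haJ => by
    rcases c.X2g.sq a haJ with e | e
    · exact hO1 a ha e
    · exact absurd (hO1 z (e ▸ mul_mem ha ha) c.X2g.zz) c.X2g.ne
  have hOC : ∀ a ∈ O, a ∈ Cn z → a = 1 := fun a ha haC => by
    refine hOJ a ha (c.CQ (mem_centralizer_iff.mpr fun j hj => ?_))
    have h1 : a * j * a⁻¹ * j⁻¹ = 1 := by
      refine hOJ _ ?_ (mul_mem ((mem_normalizer_iff.mp (c.CN haC) j).mp hj) (inv_mem hj))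
      rw [show a * j * a⁻¹ * j⁻¹ = a * (j * a⁻¹ * j⁻¹) by group]
      exact mul_mem ha (Normal.conj_mem inferInstance _ (inv_mem ha) j)
    exact (mul_inv_eq_iff_eq_mul.mp (mul_inv_eq_one.mp h1)).symm
  refine Cfsg.Lib.USixType.Ext.sup_oddCore ⟨c.hz, fun g hg => ?_⟩
  set z' := g * z * g⁻¹ with hz'
  have hz'C : z' ∈ Cn z := mem_centralizer_singleton_iff.mpr hg.symm.eq
  have hcomm : ∀ j ∈ Jg z, Commute j z' := fun j hj => by
    have hjC : j ∈ Cn z := map_subtype_le _ hj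
    have h1 : z' * j * z'⁻¹ * j⁻¹ = 1 := by
      refine hOC _ ?_ (mul_mem (mul_mem (mul_mem hz'C hjC) (inv_mem hz'C)) (inv_mem hjC))
      have hjR : g⁻¹ * j * g ∈ Res G := by
        simpa using Normal.conj_mem (H := Res G) inferInstance _ (c.J_le_res hj) g⁻¹
      have h2 := hzs ⟨_, hjR⟩
      have h3 : z * (g⁻¹ * j * g) * z⁻¹ * (g⁻¹ * j * g)⁻¹ ∈ O := ⟨_, h2, by simp [z1]⟩
      have h4 := Normal.conj_mem (H := O) inferInstance _ h3 g
      convert h4 using 1
      rw [hz']; group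
    exact (mul_inv_eq_iff_eq_mul.mp (mul_inv_eq_one.mp h1)).symm
  refine ((c.X2g.cen z' (c.CQ (mem_centralizer_iff.mpr fun j hj => (hcomm j hj).eq)) hcomm).resolve_left fun e => ?_)
  exact c.X2g.ne (conj_eq_one_iff.mp e)

end Ctx

end Cfsg.Lib.FiLargest
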