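import Cfsg.Agent.FiLargest.LinearIndex

/-!
Conjugates of the involution inside the two-core: they lie in the long orbit, and the linear part of the intersection
of the conjugate core with the centraliser lies in `K`.
-/

set_option autoImplicit false
set_option maxRecDepth 100000
set_option maxHeartbeats 1000000
set_option linter.unusedSectionVars false
set_option linter.style.haveILetI false

namespace Cfsg.Lib.FiLargest

open Subgroup Matrix
open Cfsg.Lib.LargeExtra (X2 mem_map_conj mem_conj_of_mem mem_zpowers_two)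
open Cfsg.Lib.LargeExtra.OutExtra Cfsg.Lib.ExtraOut
open Cfsg.Lib.LargeFischer (rep FSetting F4 w4 wp C5 code4 code4_bijective cls Sing6 supp6 f4_cube card_modEq_fixed
  disjoint_alt f4_two f4_five)

universe u

theorem pattern_odd : ∀ a b : F4,
    ((Finset.univ.filter fun i : Fin 6 => (if i = 0 then a else b) ≠ 0).card : ZMod 2) = 1 →
    (b = 0 ∧ a ≠ 0) ∨ (a = 0 ∧ b ≠ 0) := by decide +kernel

theorem six_options : (Finset.univ.filter fun p : F4 × F4 => (p.2 = 0 ∧ p.1 ≠ 0) ∨ (p.1 = 0 ∧ p.2 ≠ 0)).card = 6 := by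
  decide +kernel

theorem even_three_cycle : ∀ j : Fin 6, j ≠ 0 → ∃ σ : Equiv.Perm (Fin 6), Equiv.Perm.sign σ = 1 ∧ σ 0 = 0 ∧ σ 1 = j := by
  decide +kernel

theorem even_move : ∀ j : Fin 6, ∃ σ : Equiv.Perm (Fin 6), Equiv.Perm.sign σ = 1 ∧ σ 0 = j := by decide +kernel

theorem scale_square : ∀ w a b : F4, w ≠ 0 → w * a * (w * b) ^ 2 = a * b ^ 2 := by decide +kernel

theorem unscale : ∀ a b : F4, b ≠ 0 → a * b ^ 2 * b = a := by decide +kernel

theorem code_zero : (none : Option (ZMod 3)) = code4 0 := by decide +kernel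

theorem zmod_five : ∀ a : ZMod 2, (5 : ℕ) • a = 0 → a = 0 := by decide

theorem wp_ne_zero : ∀ k : ZMod 3, wp k ≠ 0 := by decide +kernel

namespace Ctx

variable {G : Type u} [Group G] [Finite G] {z : G} (c : Ctx z)

theorem B_eq (a b : ↥(J z)) : c.F.B (c.pt a) (c.pt b) = 0 ↔ Commute a b := by
  have h1 : c.F.B (c.pt a) (c.pt b) = cm a b := by
    rw [← c.D.polar_eq a b]
    have h := c.F.q_add (c.pt a) (c.pt b)
    simp only [c.Fq] at h
    show _ = c.T (c.D.π a + c.D.π b) - c.T (c.D.π a) - c.T (c.D.π b)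
    unfold pt at h
    rw [h]; simp only [pt]; ring
  rw [h1]
  exact ⟨fun h => (commute_of_cm h).symm, fun h => if_pos h.symm⟩

theorem pt_q (a : ↥(J z)) : c.F.q (c.pt a) = 0 ↔ a * a = 1 := by
  rw [c.Fq, pt, c.D.hT]
  unfold Cfsg.Lib.LargeExtra.OutExtra.sq
  by_cases h : a * a = 1 <;> simp [h]

include c in
theorem x_ne {g : G} {x : ↥(J z)} (hg : g * z * g⁻¹ = ((x : ↥(Cn z)) : G)) : (x : ↥(Cn z)) ≠ 1 := fun e => by
  rw [e, Subgroup.coe_one] at hg
  exact c.X2g.ne (conj_eq_one_iff.mp hg)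

theorem RC_conjugate {g : G} (h : ↥(Cn z)) {r : ↥(Cn z)} : h * r * h⁻¹ ∈ c.RC ((h : G) * g) ↔ r ∈ c.RC g := by
  rw [c.mem_RC, c.mem_RC]
  simp only [Subgroup.coe_mul, Subgroup.coe_inv]
  rw [show ((h : G) * g)⁻¹ * ((h : G) * r * (h : G)⁻¹) * ((h : G) * g) = g⁻¹ * (r : G) * g by group]

theorem move {g : G} {x : ↥(J z)} (hg : g * z * g⁻¹ = ((x : ↥(Cn z)) : G)) (hxz : ((x : ↥(Cn z)) : G) ≠ z)
    {f : c.ι → ZMod 2} (hf : f ∈ c.F.orb (c.pt x)) :
    ∃ (h : ↥(Cn z)) (x' : ↥(J z)), c.pt x' = f ∧ ((h : G) * g) * z * ((h : G) * g)⁻¹ = ((x' : ↥(Cn z)) : G) ∧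
      ((x' : ↥(Cn z)) : G) ≠ z := by
  obtain ⟨y, hy⟩ := hf
  obtain ⟨k, hk, -, hyk⟩ := c.exists_lift y
  refine ⟨k, MulAut.conjNormal k x, ?_, ?_, ((c.conj_ne k hxz (c.x_ne hg)).2)⟩
  · rw [← c.act, ← hyk, hy]
  · simp only [MulAut.conjNormal_apply, Subgroup.coe_mul, Subgroup.coe_inv]
    rw [← hg]; group

variable {g : G} {x : ↥(J z)}

theorem RC_sq (hg : g * z * g⁻¹ = ((x : ↥(Cn z)) : G)) {r : ↥(Cn z)} (hr : r ∈ c.RC g) :
    r * r = 1 ∨ r * r = (x : ↥(Cn z)) :=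
  ((c.X2g.conj g).sq _ hr.1).imp (fun h => Subtype.ext h) fun h => Subtype.ext (h.trans hg)

theorem RC_ρ_sq (hg : g * z * g⁻¹ = ((x : ↥(Cn z)) : G)) {r : ↥(Cn z)} (hr : r ∈ c.RC g) :
    c.ρ r * c.ρ r = 1 := by
  rw [← map_mul]
  refine c.ρ_ker.mpr ?_
  rcases c.RC_sq hg hr with e | e <;> rw [e]
  exacts [one_mem _, x.2]

theorem x_mem (hg : g * z * g⁻¹ = ((x : ↥(Cn z)) : G)) : (x : ↥(Cn z)) ∈ c.RC g :=
  c.mem_RC.mpr (by rw [← hg, show g⁻¹ * (g * z * g⁻¹) * g = z by group]; exact c.X2g.mem)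

/-- The image of the intersection of the two cores. -/
def Abar (c : Ctx z) (g : G) : AddSubgroup (c.ι → ZMod 2) where
  carrier := {v | ∃ y : ↥(J z), (y : ↥(Cn z)) ∈ c.RC g ∧ c.pt y = v}
  zero_mem' := ⟨1, one_mem _, c.D.π_one⟩
  add_mem' := by
    rintro _ _ ⟨a, ha, rfl⟩ ⟨b, hb, rfl⟩
    exact ⟨a * b, mul_mem ha hb, c.D.mul a b⟩
  neg_mem' := by
    rintro _ ⟨a, ha, rfl⟩
    exact ⟨a⁻¹, inv_mem ha, c.D.π_inv a⟩

theorem z_RC (hg : g * z * g⁻¹ = ((x : ↥(Cn z)) : G)) (hxz : ((x : ↥(Cn z)) : G) ≠ z) :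
    ((c.zq : ↥(J z)) : ↥(Cn z)) ∈ c.RC g := by
  rw [c.mem_RC, c.zv]
  exact mem_conj_of_mem c.X2g c.CQ c.CN (by rw [card_map_of_injective (Cn z).subtype_injective, c.card]; norm_num)
    (by rw [hg]; exact ⟨_, x.2, rfl⟩) (by rw [hg]; exact hxz)

theorem Abar_card (hg : g * z * g⁻¹ = ((x : ↥(Cn z)) : G)) (hxz : ((x : ↥(Cn z)) : G) ≠ z) :
    Nat.card (c.Abar g) ≤ 64 := by
  classical
  choose y hy hy' using fun v : c.Abar g => v.2
  let f : c.Abar g × Bool → ↥(c.RC g ⊓ J z) := fun p =>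
    ⟨((y p.1 * (if p.2 then c.zq else 1) : ↥(J z)) : ↥(Cn z)),
      by
        refine ⟨?_, (y p.1 * _ : ↥(J z)).2⟩
        rw [Subgroup.coe_mul]
        refine mul_mem (hy _) ?_
        split
        · exact c.z_RC hg hxz
        · exact one_mem _⟩
  have hf : Function.Injective f := by
    rintro ⟨v, s⟩ ⟨w, t⟩ e
    have e' : y v * (if s then c.zq else 1) = y w * (if t then c.zq else 1) :=
      Subtype.ext (congrArg (fun u : ↥(c.RC g ⊓ J z) => (u : ↥(Cn z))) e)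
    have hvw : v = w := Subtype.ext (by
      rw [← hy' v, ← hy' w]
      have h := congrArg c.pt e'
      unfold pt at h ⊢
      rw [c.D.mul, c.D.mul] at h
      simpa [apply_ite c.D.π, c.D.π_one, c.D.π_z] using h)
    subst hvw
    have hz1 : c.zq ≠ 1 := c.D.es.z_ne_one
    cases s <;> cases t <;> simp_all
  have h := (Nat.card_le_card_of_injective f hf).trans (c.RC_inter hg hxz).1
  rw [Nat.card_prod, Nat.card_eq_fintype_card (α := Bool), Fintype.card_bool] at h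
  omega

theorem Abar_B (hg : g * z * g⁻¹ = ((x : ↥(Cn z)) : G)) (hxz : ((x : ↥(Cn z)) : G) ≠ z) {a b : c.ι → ZMod 2}
    (ha : a ∈ c.Abar g) (hb : b ∈ c.Abar g) : c.F.B a b = 0 := by
  obtain ⟨p, hp, rfl⟩ := ha
  obtain ⟨q, hq, rfl⟩ := hb
  exact (c.B_eq p q).mpr (Subtype.ext ((c.RC_inter hg hxz).2 _ ⟨hp, p.2⟩ _ ⟨hq, q.2⟩))

theorem RK_card (hg : g * z * g⁻¹ = ((x : ↥(Cn z)) : G)) (hxz : ((x : ↥(Cn z)) : G) ≠ z) :
    32 ≤ Nat.card ((c.RC g).map c.ρ) ∧
      Nat.card ((c.RC g).map c.ρ) ≤ 4 * Nat.card ((c.RC g ⊓ c.K).map c.ρ) ∧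
      Nat.card ((c.RC g ⊓ c.K).map c.ρ) ≤ 16 := by
  have h1 := c.card_map_rep (c.RC g)
  rw [c.RC_card hg hxz] at h1
  refine ⟨?_, ?_, ?_⟩
  · have h2 := Nat.mul_le_mul_left (Nat.card ((c.RC g).map c.ρ)) (c.RC_inter hg hxz).1
    rw [← h1] at h2
    omega
  · have h2 := c.card_map_rep (c.RC g ⊓ c.K)
    rw [show c.RC g ⊓ c.K ⊓ J z = c.RC g ⊓ J z by rw [inf_assoc, inf_of_le_right c.JK]] at h2
    have h3 := relIndex_mul_relIndex ⊥ (c.RC g ⊓ c.K) (c.RC g) bot_le inf_le_left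
    rw [relIndex_bot_left, relIndex_bot_left, inf_relIndex_left, c.RC_card hg hxz] at h3
    have h4 : c.K.relIndex (c.RC g) ≤ 4 := by
      refine le_trans ?_ c.index_K.1
      rw [← relIndex_top_right c.K]
      exact relIndex_le_of_le_right le_top (by rw [relIndex_top_right]; exact index_ne_zero_of_finite)
    refine Nat.le_of_mul_le_mul_right ?_ (Nat.card_pos (α := ↥(c.RC g ⊓ J z)))
    rw [← h1, mul_assoc, ← h2, ← h3, mul_comm 4]
    exact Nat.mul_le_mul_left _ h4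
  · refine c.elem_K _ inf_le_right fun r hr => ?_
    rcases c.RC_sq hg hr.1 with e | e <;> rw [e]
    exacts [one_mem _, x.2]

theorem exists_outside_K (hg : g * z * g⁻¹ = ((x : ↥(Cn z)) : G)) (hxz : ((x : ↥(Cn z)) : G) ≠ z) :
    ∃ r ∈ c.RC g, r ∉ c.K := by
  by_contra! hn
  obtain ⟨h1, -, h3⟩ := c.RK_card hg hxz
  rw [inf_of_le_left (show c.RC g ≤ c.K from hn)] at h3
  omega

/-- An element of `K` fixing the point gives one fixing the conjugate. -/
theorem fix_lift (hg : g * z * g⁻¹ = ((x : ↥(Cn z)) : G)) (hxz : ((x : ↥(Cn z)) : G) ≠ z)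
    (l : ↥((rep (J z) c.D).comp c.K.subtype).range) (hl : c.F.ρ l (c.pt x) = c.pt x) :
    ∃ h : ↥(Cn z), h ∈ c.K ∧ h * (x : ↥(Cn z)) * h⁻¹ = (x : ↥(Cn z)) ∧ c.ρ h = c.F.ρ l := by
  obtain ⟨k, hk, -, hlk⟩ := c.exists_lift l
  obtain ⟨h, hh, hρ, hK⟩ := c.conj_of_rep k x x (by rw [← hlk]; exact hl) hxz (c.x_ne hg)
  exact ⟨h, hK hk, hh, hρ.trans hlk.symm⟩

theorem RC_conj' (hg : g * z * g⁻¹ = ((x : ↥(Cn z)) : G)) {h r : ↥(Cn z)}
    (hh : h * (x : ↥(Cn z)) * h⁻¹ = (x : ↥(Cn z))) (hr : r ∈ c.RC g) : h⁻¹ * r * h ∈ c.RC g := by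
  have hh' : h⁻¹ * (x : ↥(Cn z)) * h⁻¹⁻¹ = (x : ↥(Cn z)) := by
    rw [inv_inv]; conv_lhs => rw [← hh]
    group
  simpa using c.RC_conj hg hh' hr

theorem Abar_inv (hg : g * z * g⁻¹ = ((x : ↥(Cn z)) : G)) (hxz : ((x : ↥(Cn z)) : G) ≠ z)
    {l : ↥((rep (J z) c.D).comp c.K.subtype).range} (hl : c.F.ρ l (c.pt x) = c.pt x) {a : c.ι → ZMod 2}
    (ha : a ∈ c.Abar g) : c.F.ρ l a ∈ c.Abar g := by
  obtain ⟨h, -, hh, hρ⟩ := c.fix_lift hg hxz l hl
  obtain ⟨y, hy, rfl⟩ := ha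
  refine ⟨MulAut.conjNormal h y, ?_, by rw [← c.act, hρ]⟩
  rw [MulAut.conjNormal_apply]
  exact c.RC_conj hg hh hy

theorem R0_normal (hg : g * z * g⁻¹ = ((x : ↥(Cn z)) : G)) (hxz : ((x : ↥(Cn z)) : G) ≠ z)
    {l : ↥((rep (J z) c.D).comp c.K.subtype).range} (hl : c.F.ρ l (c.pt x) = c.pt x) :
    c.F.ρ l ∈ normalizer (((c.RC g ⊓ c.K).map c.ρ : Subgroup (Equiv.Perm (c.ι → ZMod 2))) : Set _) := by
  haveI := c.Kn
  obtain ⟨h, -, hh, hρ⟩ := c.fix_lift hg hxz l hl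
  rw [← hρ]
  refine Cfsg.Lib.Coprime.mem_normalizer_of_conj_mem ?_ ?_
  · rintro _ ⟨r, hr, rfl⟩
    exact ⟨_, ⟨c.RC_conj hg hh hr.1, c.Kn.conj_mem r hr.2 h⟩, by rw [map_mul, map_mul, map_inv]⟩
  · rintro _ ⟨r, hr, rfl⟩
    refine ⟨_, ⟨c.RC_conj' hg hh hr.1, ?_⟩, by simp only [map_mul, map_inv, inv_inv]⟩
    simpa using c.Kn.conj_mem r hr.2 h⁻¹

/-- Elements commuting with the stabiliser of a vector with full support are few. -/
theorem few_centralizing {f : c.ι → ZMod 2} (hf : ∀ i, c.F.co i f ≠ 0)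
    (L : Subgroup ↥((rep (J z) c.D).comp c.K.subtype).range) (hLf : ∀ l ∈ L, c.F.ρ l f = f)
    (hall : ∀ σ ∈ alternatingGroup (Fin 6), ∃ g : c.F.Nh,
      (g : ↥((rep (J z) c.D).comp c.K.subtype).range) ∈ L ∧ c.F.π g = σ)
    (R : Subgroup (Equiv.Perm (c.ι → ZMod 2))) (hK : ∀ τ ∈ R, ∃ k ∈ c.K, c.ρ k = τ)
    (hcomm : ∀ τ ∈ R, ∀ l ∈ L, ∀ u, τ (c.F.ρ l u) = c.F.ρ l (τ u)) : Nat.card R ≤ 6 := by
  classical
  let e : Fin 6 → c.ι → ZMod 2 := fun i => c.F.mk6 (Pi.single i (c.F.co i f))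
  -- monomial elements of the stabiliser
  have hmon : ∀ σ ∈ alternatingGroup (Fin 6), ∃ l ∈ L, ∀ u i,
      c.F.co (σ i) (c.F.ρ l u) * c.F.co (σ i) f ^ 2 = c.F.co i u * c.F.co i f ^ 2 := by
    intro σ hσ
    obtain ⟨n, hn, hnσ⟩ := hall σ hσ
    obtain ⟨w, hw⟩ := c.F.co_nh n
    refine ⟨_, hn, fun u i => ?_⟩
    have h1 := hw f i
    rw [hLf _ hn, hnσ] at h1
    rw [← hnσ, hw u i, hnσ, h1]
    exact scale_square _ _ _ (wp_ne_zero _)
  have hext : ∀ u u' : c.ι → ZMod 2, (∀ i, c.F.co i u * c.F.co i f ^ 2 = c.F.co i u' * c.F.co i f ^ 2) → u = u' :=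
    fun u u' h => c.F.co_ext fun i => mul_right_cancel₀ (pow_ne_zero 2 (hf i)) (h i)
  have he : ∀ i k, c.F.co k (e i) * c.F.co k f ^ 2 = if k = i then 1 else 0 := fun i k => by
    simp only [e, c.F.co_mk6]
    split_ifs with h
    · subst h
      rw [Pi.single_eq_same, ← pow_succ', f4_cube _ (hf k)]
    · rw [Pi.single_eq_of_ne h, zero_mul]
  -- the image of the first basis vector
  have hpat : ∀ τ ∈ R, ∀ j, j ≠ 0 →
      c.F.co j (τ (e 0)) * c.F.co j f ^ 2 = c.F.co 1 (τ (e 0)) * c.F.co 1 f ^ 2 := by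
    intro τ hτ j hj
    obtain ⟨σ, hσ, h0, h1⟩ := even_three_cycle j hj
    obtain ⟨l, hl, hlm⟩ := hmon σ (Equiv.Perm.mem_alternatingGroup.mpr hσ)
    have hfix : c.F.ρ l (e 0) = e 0 := hext _ _ fun k => by
      obtain ⟨i, rfl⟩ := σ.surjective k
      rw [hlm, he, he]
      conv_rhs => rw [← h0]
      simp only [σ.injective.eq_iff]
    have h := hlm (τ (e 0)) 1
    rwa [← hcomm τ hτ l hl, hfix, h1] at h
  let φ : R → {p : F4 × F4 // (p.2 = 0 ∧ p.1 ≠ 0) ∨ (p.1 = 0 ∧ p.2 ≠ 0)} := fun τ =>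
    ⟨(c.F.co 0 (τ.1 (e 0)) * c.F.co 0 f ^ 2, c.F.co 1 (τ.1 (e 0)) * c.F.co 1 f ^ 2), by
      refine pattern_odd _ _ ?_
      set a := c.F.co 0 (τ.1 (e 0)) * c.F.co 0 f ^ 2
      set b := c.F.co 1 (τ.1 (e 0)) * c.F.co 1 f ^ 2
      obtain ⟨k, -, hk⟩ := hK τ.1 τ.2
      have hq : c.F.q (τ.1 (e 0)) = 1 := by
        rw [← hk, c.ρ_q, show e 0 = c.F.mk6 (Pi.single 0 (c.F.co 0 f)) from rfl, ← c.F.dec_code, c.F.q_dec]
        have : (supp6 fun i => code4 ((Pi.single 0 (c.F.co 0 f) : Fin 6 → F4) i)) = {0} := by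
          ext i
          rw [Cfsg.Lib.LargeFischer.mem_supp6, code_zero,
            code4_bijective.1.ne_iff, Finset.mem_singleton]
          rcases eq_or_ne i 0 with rfl | hi
          · simp [hf]
          · simp [hi]
        rw [this]; rfl
      rw [← c.F.mk6_co (τ.1 (e 0))] at hq
      rw [q_scale c.F _ (fun i => if i = 0 then a else b) fun i => ?_, ← c.F.dec_code, c.F.q_dec] at hq
      · convert hq using 3
        ext i
        rw [Cfsg.Lib.LargeFischer.mem_supp6, code_zero,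
          code4_bijective.1.ne_iff]
        simp
      · have hz : c.F.co i f ^ 2 ≠ 0 := pow_ne_zero 2 (hf i)
        rcases eq_or_ne i 0 with rfl | hi
        · simp [a, hz]
        · simp only [if_neg hi, b, ← hpat τ.1 τ.2 i hi]
          simp [hz]⟩
  have hφ : Function.Injective φ := by
    intro τ τ' h
    simp only [φ, Subtype.mk.injEq, Prod.mk.injEq] at h
    have h0 : τ.1 (e 0) = τ'.1 (e 0) := hext _ _ fun i => by
      rcases eq_or_ne i 0 with rfl | hi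
      · exact h.1
      · rw [hpat τ.1 τ.2 i hi, hpat τ'.1 τ'.2 i hi, h.2]
    have hj : ∀ j, τ.1 (e j) = τ'.1 (e j) := fun j => by
      obtain ⟨σ, hσ, h0j⟩ := even_move j
      obtain ⟨l, hl, hlm⟩ := hmon σ (Equiv.Perm.mem_alternatingGroup.mpr hσ)
      have hle : c.F.ρ l (e 0) = e j := hext _ _ fun k => by
        obtain ⟨i, rfl⟩ := σ.surjective k
        rw [hlm, he, he]
        conv_rhs => rw [← h0j]
        simp only [σ.injective.eq_iff]
      rw [← hle, hcomm τ.1 τ.2 l hl, hcomm τ'.1 τ'.2 l hl, h0]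
    refine Subtype.ext (Equiv.ext fun u => ?_)
    obtain ⟨k, hk, hkτ⟩ := hK τ.1 τ.2
    obtain ⟨k', hk', hkτ'⟩ := hK τ'.1 τ'.2
    have hu : u = ∑ i, c.F.sm (c.F.co i u * c.F.co i f ^ 2) (e i) := by
      let C : ∀ i : Fin 6, (c.ι → ZMod 2) →+ F4 := fun i => AddMonoidHom.mk' (c.F.co i) (c.F.co_add i)
      refine c.F.co_ext fun j => ?_
      show C j u = C j _
      rw [map_sum, Finset.sum_eq_single j]
      · show c.F.co j u = c.F.co j (c.F.sm _ _)
        rw [c.F.co_sm]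
        simp only [e, c.F.co_mk6, Pi.single_eq_same, unscale _ _ (hf j)]
      · intro i _ hi
        show c.F.co j (c.F.sm _ _) = 0
        rw [c.F.co_sm]
        simp only [e, c.F.co_mk6, Pi.single_eq_of_ne hi.symm, mul_zero]
      · simp
    let T : (c.ι → ZMod 2) →+ (c.ι → ZMod 2) := AddMonoidHom.mk' (c.ρ k) (c.ρ_add k)
    let T' : (c.ι → ZMod 2) →+ (c.ι → ZMod 2) := AddMonoidHom.mk' (c.ρ k') (c.ρ_add k')
    rw [← hkτ, ← hkτ']
    show T u = T' u
    rw [hu, map_sum, map_sum]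
    refine Finset.sum_congr rfl fun i _ => ?_
    show c.ρ k (c.F.sm _ _) = c.ρ k' (c.F.sm _ _)
    rw [c.F.map_sm (c.ρ_add k) (c.om_ρ hk), c.F.map_sm (c.ρ_add k') (c.om_ρ hk'), hkτ, hkτ', hj i]
  refine (Nat.card_le_card_of_injective φ hφ).trans ?_
  rw [Nat.card_eq_fintype_card, Fintype.card_subtype, six_options]

/-- At a vector with full support the intersection has order sixteen and the orbit is the long one. -/
theorem full_case (hg : g * z * g⁻¹ = ((x : ↥(Cn z)) : G)) (hxz : ((x : ↥(Cn z)) : G) ≠ z)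
    (hf : ∀ i, c.F.co i (c.pt x) ≠ 0) :
    Nat.card ((c.RC g ⊓ c.K).map c.ρ) = 16 ∧ c.pt x ∉ c.F.orb c.F.v0 := by
  classical
  haveI : Fact (Nat.Prime 2) := ⟨Nat.prime_two⟩
  haveI : Fact (Nat.Prime 5) := ⟨by norm_num⟩
  let fc : Cfsg.Lib.LargeFischer.Cd := fun i => code4 (c.F.co i (c.pt x))
  have hdec : c.F.dec fc = c.pt x := by rw [c.F.dec_code, c.F.mk6_co]
  have hu : supp6 fc = Finset.univ := Finset.eq_univ_iff_forall.mpr fun i => Cfsg.Lib.LargeFischer.mem_supp6.mpr fun h =>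
    hf i (code4_bijective.1 (h.trans code_zero))
  obtain ⟨L, hLf, hLA, -, hall⟩ := c.F.stab_vec hu
  rw [hdec] at hLf
  set R0 := (c.RC g ⊓ c.K).map c.ρ with hR0
  set LP := L.map c.F.ρ with hLP
  have hLP' : Nonempty (↥LP ≃* alternatingGroup (Fin 6)) := by
    obtain ⟨eA⟩ := hLA
    exact ⟨(L.equivMapOfInjective _ c.F.ρ_inj).symm.trans eA⟩
  have hn : LP ≤ normalizer (R0 : Set _) := by
    rintro _ ⟨l, hl, rfl⟩
    exact c.R0_normal hg hxz (hLf l hl)
  obtain ⟨h32, h4, h16⟩ := c.RK_card hg hxz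
  have hP : IsPGroup 2 R0 := by
    intro y
    obtain ⟨r, hr, hry⟩ := y.2
    exact ⟨1, Subtype.ext (by rw [pow_one, pow_two, Subgroup.coe_mul, ← hry]; exact c.RC_ρ_sq hg hr.1)⟩
  obtain ⟨n, hn2⟩ := IsPGroup.iff_card.mp hP
  rw [← hR0] at h4 h16
  have hcard : Nat.card R0 = 16 := by
    by_contra hne
    have hn3 : n = 3 := by
      rw [hn2] at h4 h16 hne
      have : n ≤ 4 := by
        by_contra hlt
        have := Nat.pow_le_pow_right (show 1 ≤ 2 by norm_num) (show 5 ≤ n by omega)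
        omega
      interval_cases n <;> omega
    subst hn3
    -- the stabiliser centralises
    set N := (centralizer (R0 : Set (Equiv.Perm (c.ι → ZMod 2)))).subgroupOf LP with hN
    haveI hNn : N.Normal := ⟨fun a ha l => by
      rw [hN, mem_subgroupOf] at ha ⊢
      refine mem_centralizer_iff.mpr fun r hr => ?_
      have hr' : (l : Equiv.Perm (c.ι → ZMod 2))⁻¹ * r * l ∈ R0 := by
        simpa using (mem_normalizer_iff.mp (hn (inv_mem l.2)) r).mp hr
      have h := mem_centralizer_iff.mp ha _ hr'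
      simp only [Subgroup.coe_mul, Subgroup.coe_inv]
      calc r * ((l : Equiv.Perm (c.ι → ZMod 2)) * a * (l : Equiv.Perm (c.ι → ZMod 2))⁻¹)
          = l * ((l : Equiv.Perm (c.ι → ZMod 2))⁻¹ * r * l * a) * (l : Equiv.Perm (c.ι → ZMod 2))⁻¹ := by group
        _ = _ := by rw [h]; group⟩
    obtain ⟨eA⟩ := hLP'
    haveI : Finite LP := Finite.of_equiv _ eA.symm.toEquiv
    have hLc : Nat.card LP = 360 := by
      rw [Nat.card_congr eA.toEquiv, nat_card_alternatingGroup, Nat.card_fin]; rfl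
    haveI : IsSimpleGroup LP := by
      haveI : IsSimpleGroup (alternatingGroup (Fin 6)) := alternatingGroup.isSimpleGroup (by simp)
      exact eA.isSimpleGroup
    obtain ⟨l, hl⟩ := exists_prime_orderOf_dvd_card' (G := LP) 5 (by rw [hLc]; norm_num)
    have hlN : l ∈ N := by
      have hst : ∀ r : Equiv.Perm (c.ι → ZMod 2), r ∈ R0 ↔
          (l : Equiv.Perm (c.ι → ZMod 2)) * r * (l : Equiv.Perm (c.ι → ZMod 2))⁻¹ ∈ R0 := mem_normalizer_iff.mp (hn l.2)
      let σ : Equiv.Perm R0 :=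
        { toFun := fun r => ⟨(l : Equiv.Perm (c.ι → ZMod 2)) * r.1 * (l : Equiv.Perm (c.ι → ZMod 2))⁻¹, (hst r.1).mp r.2⟩
          invFun := fun r => ⟨(l : Equiv.Perm (c.ι → ZMod 2))⁻¹ * r.1 * (l : Equiv.Perm (c.ι → ZMod 2)),
            (hst _).mpr (by
              rw [← mul_assoc, ← mul_assoc, mul_inv_cancel, one_mul, mul_inv_cancel_right]; exact r.2)⟩
          left_inv := fun r => Subtype.ext (by
            show (l : Equiv.Perm (c.ι → ZMod 2))⁻¹ * ((l : Equiv.Perm (c.ι → ZMod 2)) * r.1 * (l : Equiv.Perm (c.ι → ZMod 2))⁻¹) * (l : Equiv.Perm (c.ι → ZMod 2)) = r.1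
            group)
          right_inv := fun r => Subtype.ext (by
            show (l : Equiv.Perm (c.ι → ZMod 2)) * ((l : Equiv.Perm (c.ι → ZMod 2))⁻¹ * r.1 * (l : Equiv.Perm (c.ι → ZMod 2))) * (l : Equiv.Perm (c.ι → ZMod 2))⁻¹ = r.1
            group) }
      have hσn : ∀ (k : ℕ) (r : R0), (((σ ^ k) r : R0) : Equiv.Perm (c.ι → ZMod 2)) =
          (l : Equiv.Perm (c.ι → ZMod 2)) ^ k * r * ((l : Equiv.Perm (c.ι → ZMod 2)) ^ k)⁻¹ := by
        intro k
        induction k with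
        | zero => intro r; simp
        | succ k ih =>
          intro r
          rw [pow_succ', Equiv.Perm.mul_apply]
          show (l : Equiv.Perm (c.ι → ZMod 2)) * ((σ ^ k) r : R0).1 * (l : Equiv.Perm (c.ι → ZMod 2))⁻¹ = _
          rw [ih, pow_succ']; group
      have hl5 : (l : Equiv.Perm (c.ι → ZMod 2)) ^ 5 = 1 := by
        have := congrArg Subtype.val (hl ▸ pow_orderOf_eq_one l : l ^ 5 = 1)
        simpa using this
      have h := card_modEq_fixed (p := 5) σ (Equiv.ext fun r => Subtype.ext (by rw [hσn, hl5]; simp))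
      let Fx : Subgroup R0 :=
        { carrier := {r | σ r = r}
          one_mem' := Subtype.ext (show (l : Equiv.Perm (c.ι → ZMod 2)) * 1 * (l : Equiv.Perm (c.ι → ZMod 2))⁻¹ = 1 by simp)
          mul_mem' := fun {a b} (ha : σ a = a) (hb : σ b = b) => Subtype.ext (by
            show (l : Equiv.Perm (c.ι → ZMod 2)) * ((a : Equiv.Perm (c.ι → ZMod 2)) * b) * (l : Equiv.Perm (c.ι → ZMod 2))⁻¹ = a * b
            conv_rhs => rw [← congrArg Subtype.val ha, ← congrArg Subtype.val hb]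
            show _ = ((l : Equiv.Perm (c.ι → ZMod 2)) * a * (l : Equiv.Perm (c.ι → ZMod 2))⁻¹) *
              ((l : Equiv.Perm (c.ι → ZMod 2)) * b * (l : Equiv.Perm (c.ι → ZMod 2))⁻¹)
            group)
          inv_mem' := fun {a} (ha : σ a = a) => Subtype.ext (by
            show (l : Equiv.Perm (c.ι → ZMod 2)) * (a : Equiv.Perm (c.ι → ZMod 2))⁻¹ * (l : Equiv.Perm (c.ι → ZMod 2))⁻¹ = (a : Equiv.Perm (c.ι → ZMod 2))⁻¹
            conv_rhs => rw [← congrArg Subtype.val ha]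
            show _ = ((l : Equiv.Perm (c.ι → ZMod 2)) * a * (l : Equiv.Perm (c.ι → ZMod 2))⁻¹)⁻¹
            group) }
      have hd : Nat.card Fx ∣ 8 := by
        have := Fx.card_subgroup_dvd_card
        rw [hn2] at this
        exact this
      rw [hn2] at h
      change _ = Nat.card Fx % 5 at h
      have h8 : Nat.card Fx = 8 := by
        obtain ⟨j, hj, hje⟩ := (Nat.dvd_prime_pow Nat.prime_two).mp (show Nat.card Fx ∣ 2 ^ 3 from hd)
        rw [hje] at h ⊢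
        interval_cases j <;> omega
      have htop : Fx = ⊤ := eq_top_of_card_eq _ (by rw [h8, hn2]; norm_num)
      rw [hN, mem_subgroupOf]
      refine mem_centralizer_iff.mpr fun r hr => ?_
      have hr' : σ ⟨r, hr⟩ = ⟨r, hr⟩ := (htop ▸ mem_top _ : (⟨r, hr⟩ : R0) ∈ Fx)
      exact (mul_inv_eq_iff_eq_mul.mp (congrArg Subtype.val hr')).symm
    have htop : N = ⊤ := by
      rcases IsSimpleGroup.eq_bot_or_eq_top_of_normal N inferInstance with h | h
      · exfalso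
        rw [h, mem_bot] at hlN
        rw [hlN, orderOf_one] at hl
        norm_num at hl
      · exact h
    have hfew := c.few_centralizing hf L hLf hall R0 (by
      rintro _ ⟨r, hr, rfl⟩
      exact ⟨r, hr.2, rfl⟩) fun τ hτ m hm u => by
        have h : (⟨c.F.ρ m, ⟨m, hm, rfl⟩⟩ : LP) ∈ N := htop ▸ mem_top _
        have h2 := mem_centralizer_iff.mp (mem_subgroupOf.mp h) τ hτ
        exact Equiv.ext_iff.mp h2 u
    rw [hn2] at hfew
    norm_num at hfew
  refine ⟨hcard, fun hsmall => ?_⟩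
  obtain ⟨-, hsup⟩ := disjoint_alt R0 LP hP hLP' hn
  letI : MulAction ↥((rep (J z) c.D).comp c.K.subtype).range (c.ι → ZMod 2) := MulAction.compHom _ c.F.ρ
  set St := MulAction.stabilizer ↥((rep (J z) c.D).comp c.K.subtype).range (c.pt x)
  have hle : R0 ⊔ LP ≤ St.map c.F.ρ := by
    refine sup_le ?_ ?_
    · rintro _ ⟨r, ⟨hr, hrK⟩, rfl⟩
      refine ⟨c.toX r hrK, ?_, Equiv.ext fun v => c.toX_apply r hrK v⟩
      show c.F.ρ (c.toX r hrK) (c.pt x) = c.pt x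
      rw [c.toX_apply, c.act]
      refine congrArg c.pt (Subtype.ext ?_)
      rw [MulAut.conjNormal_apply]
      exact c.RC_fix hg hr
    · rintro _ ⟨l, hl, rfl⟩
      exact ⟨l, hLf l hl, rfl⟩
  have hd := card_dvd_of_le hle
  rw [hsup, hcard, card_map_of_injective c.F.ρ_inj] at hd
  have h := card_eq_card_quotient_mul_card_subgroup St
  rw [← Nat.card_congr (MulAction.orbitEquivQuotientStabilizer ↥((rep (J z) c.D).comp c.K.subtype).range (c.pt x)),
    show MulAction.orbit ↥((rep (J z) c.D).comp c.K.subtype).range (c.pt x) = c.F.orb (c.pt x) from rfl,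
    c.F.orb_eq hsmall, c.F.v0_card, c.F.cardX] at h
  rw [show Nat.card St = 25920 by omega] at hd
  norm_num at hd

/-- Conjugates of the involution in the two-core lie in the long orbit. -/
theorem not_small (hg : g * z * g⁻¹ = ((x : ↥(Cn z)) : G)) (hxz : ((x : ↥(Cn z)) : G) ≠ z) :
    c.pt x ∉ c.F.orb c.F.v0 := fun hsmall => by
  obtain ⟨k, hk0, hk1, -, h378, -, -⟩ := c.F.two_orbits
  obtain ⟨f, hfs, hfk, hfd⟩ : ∃ f, Sing6 f ∧ cls f = k ∧ c.F.rep k = c.F.dec f :=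
    ⟨_, (Cfsg.Lib.LargeFischer.FSetting.exists_rep k).choose_spec.1,
      (Cfsg.Lib.LargeFischer.FSetting.exists_rep k).choose_spec.2, rfl⟩
  have hmem : c.F.rep k ∈ c.F.orb c.F.v0 := by
    rw [(c.small_iff (c.F.rep_sing k).1 (c.F.rep_sing k).2).1, h378]
  obtain ⟨h, x', hx', hg', hxz'⟩ := c.move hg hxz (f := c.F.rep k) (c.F.orb_eq hsmall ▸ hmem)
  refine (c.full_case hg' hxz' fun i => ?_).2 (hx'.symm ▸ hmem)
  have hu := Cfsg.Lib.LargeFischer.FSetting.full_of_cls hfs (hfk.symm ▸ hk0) (hfk.symm ▸ hk1)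
  rw [hx', hfd]
  intro h0
  have := Cfsg.Lib.LargeFischer.mem_supp6.mp (hu ▸ Finset.mem_univ i : i ∈ supp6 f)
  refine this ((c.F.dec_none_iff f i).mp ?_)
  rw [← c.F.co_spec, h0, c.F.emb_zero]

theorem line_trivial (hg : g * z * g⁻¹ = ((x : ↥(Cn z)) : G)) (hxz : ((x : ↥(Cn z)) : G) ≠ z)
    {L : Subgroup ↥((rep (J z) c.D).comp c.K.subtype).range} (hLf : ∀ l ∈ L, c.F.ρ l (c.pt x) = c.pt x)
    (hLA : Nonempty (L ≃* alternatingGroup (Fin 6))) {n : ↥((rep (J z) c.D).comp c.K.subtype).range} (hn : n ∈ L)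
    (h5 : n ^ 5 = 1) (hfx : ∀ u, c.F.ρ n u = u → c.F.herm u (c.pt x) = 0 → ∃ a, u = c.F.sm a (c.pt x))
    {w : c.ι → ZMod 2} (hw : w ∈ c.Abar g) (hw' : c.F.om w ∈ c.Abar g) : ∃ a, w = c.F.sm a (c.pt x) := by
  classical
  haveI := c.F.finiteX
  set v := c.pt x with hv
  let A2 : AddSubgroup (c.ι → ZMod 2) := c.Abar g ⊓ (c.Abar g).comap c.F.om
  have hA2 : ∀ a ∈ A2, ∀ t, c.F.sm t a ∈ c.Abar g := fun a ha t => by
    rcases Cfsg.Lib.LargeFischer.f4_cases t with rfl | rfl | rfl | rfl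
    · rw [c.F.sm_zero_left]; exact zero_mem _
    · rw [c.F.sm_one]; exact ha.1
    · rw [c.F.sm_w]; exact ha.2
    · rw [c.F.sm_add_left, c.F.sm_one, c.F.sm_w]; exact add_mem ha.1 ha.2
  have hsmA2 : ∀ a ∈ A2, ∀ t, c.F.sm t a ∈ A2 := fun a ha t => ⟨hA2 a ha t, by
    show c.F.om (c.F.sm t a) ∈ c.Abar g
    rw [← c.F.sm_w, c.F.sm_sm]; exact hA2 a ha _⟩
  have hperp : ∀ a ∈ A2, c.F.herm a v = 0 := fun a ha => by
    have hvA : v ∈ c.Abar g := ⟨x, c.x_mem hg, rfl⟩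
    refine c.F.herm_eq_zero (c.Abar_B hg hxz ha.1 hvA) ?_
    have e : c.F.om (c.F.om (c.F.om a)) = a := c.om_three a
    have hB : ∀ p q, c.F.B (c.F.om p) (c.F.om q) = c.F.B p q := fun p q => c.F.B_inv _ p q
    conv_lhs => rw [← e]
    rw [hB, c.om_om]
    exact c.Abar_B hg hxz (add_mem ha.2 ha.1) hvA
  -- two vectors span modulo the line
  obtain ⟨a, ha, b, hb, hspan⟩ : ∃ a ∈ A2, ∃ b ∈ A2, ∀ u ∈ A2, ∃ t s r : F4,
      u = c.F.sm t a + c.F.sm s b + c.F.sm r v := by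
    by_cases hline : ∀ u ∈ A2, ∃ r, u = c.F.sm r v
    · exact ⟨0, zero_mem _, 0, zero_mem _, fun u hu => by
        obtain ⟨r, rfl⟩ := hline u hu
        exact ⟨0, 0, r, by rw [c.F.sm_zero_left, zero_add, zero_add]⟩⟩
    push Not at hline
    obtain ⟨a, ha, hav⟩ := hline
    by_cases hplane : ∀ u ∈ A2, ∃ t r, u = c.F.sm t a + c.F.sm r v
    · exact ⟨a, ha, 0, zero_mem _, fun u hu => by
        obtain ⟨t, r, rfl⟩ := hplane u hu
        exact ⟨t, 0, r, by rw [c.F.sm_zero_left, add_zero]⟩⟩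
    push Not at hplane
    obtain ⟨b, hb, hbv⟩ := hplane
    refine ⟨a, ha, b, hb, fun u hu => ?_⟩
    by_contra hu'
    push Not at hu'
    let f : (F4 × F4 × F4) × Bool → c.Abar g := fun p =>
      ⟨c.F.sm p.1.1 a + c.F.sm p.1.2.1 b + c.F.sm p.1.2.2 u + (if p.2 then v else 0), by
        refine add_mem (add_mem (add_mem (hA2 a ha _) (hA2 b hb _)) (hA2 u hu _)) ?_
        split
        · exact ⟨x, c.x_mem hg, rfl⟩
        · exact zero_mem _⟩
    have hf : Function.Injective f := by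
      rintro ⟨⟨t, s, r⟩, i⟩ ⟨⟨t', s', r'⟩, i'⟩ e
      have e0 := congrArg (fun q : c.Abar g => q.1) e
      simp only [f] at e0
      have hi : ∀ j : Bool, (if j then v else 0) = c.F.sm (if j then 1 else 0) v := fun j => by
        cases j <;> simp [c.F.sm_one, c.F.sm_zero_left]
      rw [hi i, hi i'] at e0
      have e1 : c.F.sm (t + t') a + c.F.sm (s + s') b + c.F.sm (r + r') u +
          c.F.sm ((if i then 1 else 0) + (if i' then 1 else 0)) v = 0 := by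
        rw [← c.F.dbl (c.F.sm t' a + c.F.sm s' b + c.F.sm r' u + c.F.sm (if i' then 1 else 0) v)]
        nth_rewrite 1 [← e0]
        simp only [c.F.sm_add_left]; abel
      have inv : ∀ {p : F4}, p ≠ 0 → p ^ 2 * p = 1 := fun {p} hp => by rw [← pow_succ, f4_cube _ hp]
      have hneg : ∀ p q : c.ι → ZMod 2, p + q = 0 → p = q := fun p q h => by
        have := congrArg (· + q) h
        simpa [add_assoc, c.F.dbl] using this
      have hr : r + r' = 0 := by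
        by_contra hne
        have h := congrArg (c.F.sm ((r + r') ^ 2)) e1
        simp only [c.F.sm_add, c.F.sm_sm, inv hne, c.F.sm_one] at h
        rw [show c.F.sm ((r + r') ^ 2) 0 = 0 from c.F.co_ext fun i => by rw [c.F.co_sm, c.F.co_zero, mul_zero]] at h
        refine hu' ((r + r') ^ 2 * (t + t')) ((r + r') ^ 2 * (s + s'))
          ((r + r') ^ 2 * ((if i then 1 else 0) + (if i' then 1 else 0))) (hneg _ _ ?_)
        rw [← h]; abel
      rw [hr, c.F.sm_zero_left, add_zero] at e1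
      have hs : s + s' = 0 := by
        by_contra hne
        have h := congrArg (c.F.sm ((s + s') ^ 2)) e1
        simp only [c.F.sm_add, c.F.sm_sm, inv hne, c.F.sm_one] at h
        rw [show c.F.sm ((s + s') ^ 2) 0 = 0 from c.F.co_ext fun i => by rw [c.F.co_sm, c.F.co_zero, mul_zero]] at h
        refine hbv ((s + s') ^ 2 * (t + t'))
          ((s + s') ^ 2 * ((if i then 1 else 0) + (if i' then 1 else 0))) (hneg _ _ ?_)
        rw [← h]; abel
      rw [hs, c.F.sm_zero_left, add_zero] at e1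
      have ht : t + t' = 0 := by
        by_contra hne
        have h := congrArg (c.F.sm ((t + t') ^ 2)) e1
        simp only [c.F.sm_add, c.F.sm_sm, inv hne, c.F.sm_one] at h
        rw [show c.F.sm ((t + t') ^ 2) 0 = 0 from c.F.co_ext fun i => by rw [c.F.co_sm, c.F.co_zero, mul_zero]] at h
        exact hav ((t + t') ^ 2 * ((if i then 1 else 0) + (if i' then 1 else 0))) (hneg _ _ h)
      rw [ht, c.F.sm_zero_left, zero_add] at e1
      have hi' := c.F.sm_injective (fun h : v = 0 => ?_) e1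
      · have eqf : ∀ p q : F4, p + q = 0 → p = q := by decide +kernel
        rw [eqf _ _ hr, eqf _ _ hs, eqf _ _ ht]
        have h01 : (0 : F4) + 1 ≠ 0 ∧ (1 : F4) + 0 ≠ 0 := by decide +kernel
        cases i <;> cases i'
        · rfl
        · exact absurd hi' h01.1
        · exact absurd hi' h01.2
        · rfl
      · rcases center_cases c.D.es ((c.D.ker x).mp h) with e | e
        · exact c.x_ne hg (congrArg Subtype.val e)
        · exact hxz ((congrArg (fun q : ↥(J z) => ((q : ↥(Cn z)) : G)) e).trans c.zv)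
    have h := (Nat.card_le_card_of_injective f hf).trans (c.Abar_card hg hxz)
    simp [Cfsg.Lib.LargeFischer.card_F4] at h
  -- the stabiliser is trivial modulo the line
  have hA2l : ∀ l ∈ L, ∀ u ∈ A2, c.F.ρ l u ∈ A2 := fun l hl u hu => ⟨c.Abar_inv hg hxz (hLf l hl) hu.1, by
    show c.F.om (c.F.ρ l u) ∈ c.Abar g
    rw [← c.F.om_comm]; exact c.Abar_inv hg hxz (hLf l hl) hu.2⟩
  have hsmv : ∀ l ∈ L, ∀ t, c.F.ρ l (c.F.sm t v) = c.F.sm t v := fun l hl t => by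
    rw [c.F.map_sm (c.F.ρ_add l) (c.F.om_comm l), hLf l hl]
  let Triv : ↥((rep (J z) c.D).comp c.K.subtype).range → Prop := fun l => ∀ u ∈ A2, ∃ r, c.F.ρ l u + u = c.F.sm r v
  have hTmul : ∀ l ∈ L, ∀ m ∈ L, Triv l → Triv m → Triv (l * m) := fun l hl m hm h1 h2 u hu => by
    obtain ⟨r, hr⟩ := h2 u hu
    obtain ⟨r', hr'⟩ := h1 u hu
    refine ⟨r + r', ?_⟩
    rw [map_mul, Equiv.Perm.mul_apply, c.F.sm_add_left, ← hr',
      show c.F.ρ m u = u + c.F.sm r v by rw [← hr, add_comm (c.F.ρ m u), ← add_assoc, c.F.dbl, zero_add],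
      c.F.ρ_add, hsmv l hl]
    abel
  obtain ⟨eA⟩ := hLA
  haveI hLs : IsSimpleGroup L := by
    haveI : IsSimpleGroup (alternatingGroup (Fin 6)) := alternatingGroup.isSimpleGroup (by simp)
    exact eA.isSimpleGroup
  have hTinv : ∀ l ∈ L, Triv l → Triv l⁻¹ := fun l hl h u hu => by
    obtain ⟨r, hr⟩ := h (c.F.ρ l⁻¹ u) (hA2l _ (inv_mem hl) u hu)
    refine ⟨r, ?_⟩
    rwa [← Equiv.Perm.mul_apply, ← map_mul, mul_inv_cancel, map_one, Equiv.Perm.one_apply, add_comm] at hr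
  let N : Subgroup L :=
    { carrier := {l | Triv l.1}
      one_mem' := fun u _ => ⟨0, by rw [Subgroup.coe_one, map_one, Equiv.Perm.one_apply, c.F.dbl, c.F.sm_zero_left]⟩
      mul_mem' := fun {p q} hp hq => hTmul _ p.2 _ q.2 hp hq
      inv_mem' := fun {p} hp => hTinv _ p.2 hp }
  haveI : N.Normal := ⟨fun p hp m u hu => by
    obtain ⟨r, hr⟩ := hp (c.F.ρ (m.1)⁻¹ u) (hA2l _ (inv_mem m.2) u hu)
    refine ⟨r, ?_⟩
    have h := congrArg (c.F.ρ m.1) hr
    rw [c.F.ρ_add, hsmv _ m.2, ← Equiv.Perm.mul_apply, ← map_mul, ← Equiv.Perm.mul_apply, ← map_mul,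
      ← Equiv.Perm.mul_apply, ← map_mul, mul_inv_cancel, map_one, Equiv.Perm.one_apply] at h
    rw [Subgroup.coe_mul, Subgroup.coe_mul, Subgroup.coe_inv, mul_assoc]
    exact h⟩
  have hNe : N ≠ ⊥ := by
    intro hbot
    choose t s r hts using fun (l : L) => hspan _ (hA2l _ l.2 a ha)
    choose t' s' r' hts' using fun (l : L) => hspan _ (hA2l _ l.2 b hb)
    haveI : Finite L := Finite.of_equiv _ eA.symm.toEquiv
    have hinj : Function.Injective fun l : L => ((t l, s l), (t' l, s' l)) := by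
      intro l l' e
      simp only [Prod.mk.injEq] at e
      have key : ∀ (u : c.ι → ZMod 2) (p q p' q' : F4), c.F.ρ l.1 u = c.F.sm p a + c.F.sm q b + c.F.sm p' v →
          c.F.ρ l'.1 u = c.F.sm p a + c.F.sm q b + c.F.sm q' v →
          ∃ k, c.F.ρ (l⁻¹ * l' : L).1 u + u = c.F.sm k v := by
        intro u p q p' q' h1 h2
        refine ⟨p' + q', (c.F.ρ l.1).injective ?_⟩
        rw [c.F.ρ_add, hsmv _ l.2, ← Equiv.Perm.mul_apply, ← map_mul, Subgroup.coe_mul, Subgroup.coe_inv,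
          mul_inv_cancel_left, h1, h2, c.F.sm_add_left]
        calc _ = (c.F.sm p a + c.F.sm p a) + (c.F.sm q b + c.F.sm q b) + (c.F.sm p' v + c.F.sm q' v) := by abel
          _ = _ := by rw [c.F.dbl, c.F.dbl, zero_add, zero_add]
      obtain ⟨ka, hka⟩ := key a (t l) (s l) (r l) (r l') (hts l) (e.1.1 ▸ e.1.2 ▸ hts l')
      obtain ⟨kb, hkb⟩ := key b (t' l) (s' l) (r' l) (r' l') (hts' l) (e.2.1 ▸ e.2.2 ▸ hts' l')
      have hN : l⁻¹ * l' ∈ N := fun u hu => by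
        obtain ⟨p, q, k, rfl⟩ := hspan u hu
        refine ⟨p * ka + q * kb, ?_⟩
        have hsm := c.F.map_sm (c.F.ρ_add (l⁻¹ * l' : L).1) (c.F.om_comm (l⁻¹ * l' : L).1)
        rw [c.F.ρ_add, c.F.ρ_add, hsm, hsm, hsmv _ (l⁻¹ * l' : L).2, c.F.sm_add_left, ← c.F.sm_sm, ← c.F.sm_sm, ← hka,
          ← hkb, c.F.sm_add, c.F.sm_add]
        calc _ = c.F.sm p (c.F.ρ (l⁻¹ * l' : L).1 a) + c.F.sm p a + (c.F.sm q (c.F.ρ (l⁻¹ * l' : L).1 b) + c.F.sm q b) +
              (c.F.sm k v + c.F.sm k v) := by abel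
          _ = _ := by rw [c.F.dbl, add_zero]
      rw [hbot, mem_bot] at hN
      exact inv_mul_eq_one.mp hN
    have h := Nat.card_le_card_of_injective _ hinj
    rw [Nat.card_congr eA.toEquiv, nat_card_alternatingGroup, Nat.card_fin, Nat.card_eq_fintype_card] at h
    simp [Cfsg.Lib.LargeFischer.card_F4, Nat.factorial] at h
  have htop : N = ⊤ := (IsSimpleGroup.eq_bot_or_eq_top_of_normal N inferInstance).resolve_left hNe
  obtain ⟨r, hr⟩ := (htop ▸ mem_top _ : (⟨n, hn⟩ : L) ∈ N) w ⟨hw, hw'⟩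
  have h1 : c.F.ρ n w = w + c.F.sm r v := by rw [← hr, add_comm (c.F.ρ n w), ← add_assoc, c.F.dbl, zero_add]
  have hpow : ∀ k : ℕ, c.F.ρ (n ^ k) w = w + k • c.F.sm r v := by
    intro k
    induction k with
    | zero => simp
    | succ k ih =>
      have hk : ∀ j : ℕ, c.F.ρ n (j • c.F.sm r v) = j • c.F.sm r v := fun j => by
        show c.F.rho n _ = _
        rw [map_nsmul]
        exact congrArg (j • ·) (hsmv n hn r)
      rw [pow_succ', map_mul, Equiv.Perm.mul_apply, ih, c.F.ρ_add, h1, hk, succ_nsmul]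
      abel
  have h0 : c.F.sm r v = 0 := by
    have h := hpow 5
    rw [h5, map_one, Equiv.Perm.one_apply, left_eq_add] at h
    funext i
    refine zmod_five _ ?_
    simpa using congrFun h i
  exact hfx w (by rw [h1, h0, add_zero]) (hperp w ⟨hw, hw'⟩)

/-- The case of the chosen vector. -/
theorem linear_base (hg : g * z * g⁻¹ = ((x : ↥(Cn z)) : G)) (hxz : ((x : ↥(Cn z)) : G) ≠ z)
    {v : c.ι → ZMod 2} (hvf : ∀ i, c.F.co i v ≠ 0) (hqv : c.F.q v = 0) (he : c.F.herm c.F.v0 v ≠ 0)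
    (hBv : c.F.B v (c.F.om v) = 0)
    (hbad : ∀ a, a ≠ 0 → c.F.B c.F.v0 (c.F.sm a v) = 0 → c.F.v0 + c.F.sm a v ∉ c.F.orb c.F.v0)
    (hx : c.pt x = v) {r : ↥(Cn z)} (hr : r ∈ c.RC g) (hrL : c.Lin r) : r ∈ c.K := by
  classical
  haveI := c.Kn
  haveI : Fact (Nat.Prime 5) := ⟨by norm_num⟩
  by_contra hrK
  obtain ⟨L, n, hLf, hLA, hnL, h5, hfx⟩ := c.F.exists_five hvf
  obtain ⟨h, hhK, hh, hhn⟩ := c.fix_lift hg hxz n (by rw [hx]; exact hLf n hnL)
  -- an element of the coset commuting with the element of order five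
  set R0 := (c.RC g ⊓ c.K).map c.ρ with hR0
  have h16 : Nat.card R0 = 16 := (c.full_case hg hxz fun i => by rw [hx]; exact hvf i).1
  have hmem : ∀ y ∈ c.RC g, c.ρ y ∈ (c.RC g).map c.ρ := fun y hy => mem_map_of_mem _ hy
  have hcoset : ∀ y ∈ R0, c.ρ h * (y * c.ρ r) * (c.ρ h)⁻¹ * (c.ρ r)⁻¹ ∈ R0 := by
    rintro _ ⟨s, ⟨hs, hsK⟩, rfl⟩
    replace hs : s ∈ c.RC g := hs
    replace hsK : s ∈ c.K := hsK
    have hmemR : h * (s * r) * h⁻¹ * r⁻¹ ∈ c.RC g := mul_mem (c.RC_conj hg hh (mul_mem hs hr)) (inv_mem hr)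
    refine ⟨h * (s * r) * h⁻¹ * r⁻¹, ⟨hmemR, ?_⟩, by simp⟩
    show _ ∈ c.K
    have e : h * (s * r) * h⁻¹ * r⁻¹ = (h * s * h⁻¹) * (h * (r * h⁻¹ * r⁻¹)) := by group
    rw [e]
    exact mul_mem (c.Kn.conj_mem s hsK h) (mul_mem hhK (c.Kn.conj_mem _ (inv_mem hhK) r))
  let σf : R0 → R0 := fun y => ⟨_, hcoset y.1 y.2⟩
  have hσi : Function.Injective σf := fun y y' e => by
    have := congrArg (fun q : R0 => (q : Equiv.Perm (c.ι → ZMod 2))) e
    simp only [σf] at this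
    exact Subtype.ext (mul_right_cancel (mul_left_cancel (mul_right_cancel (mul_right_cancel this))))
  let σ : Equiv.Perm R0 := Equiv.ofBijective σf (Finite.injective_iff_bijective.mp hσi)
  have hρh5 : c.ρ h ^ 5 = 1 := by rw [hhn, ← map_pow, h5, map_one]
  have hσn : ∀ (k : ℕ) (y : R0), (((σ ^ k) y : R0) : Equiv.Perm (c.ι → ZMod 2)) * c.ρ r =
      c.ρ h ^ k * (y.1 * c.ρ r) * (c.ρ h ^ k)⁻¹ := by
    intro k
    induction k with
    | zero => intro y; simp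
    | succ k ih =>
      intro y
      rw [pow_succ', Equiv.Perm.mul_apply]
      show c.ρ h * (((σ ^ k) y : R0).1 * c.ρ r) * (c.ρ h)⁻¹ * (c.ρ r)⁻¹ * c.ρ r = _
      rw [inv_mul_cancel_right, ih, pow_succ']; group
  have hfix : ∃ y : R0, σ y = y := by
    by_contra hno
    push Not at hno
    have h := card_modEq_fixed (p := 5) σ (Equiv.ext fun y => Subtype.ext (mul_right_cancel (b := c.ρ r)
      (by rw [hσn, hρh5]; simp)))
    haveI : IsEmpty {y : R0 // σ y = y} := ⟨fun y => hno y.1 y.2⟩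
    rw [h16, Nat.card_of_isEmpty] at h
    norm_num at h
  obtain ⟨⟨y, s, ⟨hs, hsK⟩, hsy⟩, hy⟩ := hfix
  replace hs : s ∈ c.RC g := hs
  replace hsK : s ∈ c.K := hsK
  set r' := s * r with hr'd
  have hr'R : r' ∈ c.RC g := mul_mem hs hr
  have hr'K : r' ∉ c.K := fun hh' => hrK (by simpa [hr'd] using mul_mem (inv_mem hsK) hh')
  have hr'L : c.Lin r' := mul_mem (c.K_le_HL hsK) (show r ∈ c.HL from hrL)
  have hcomm : ∀ u, c.ρ r' (c.F.ρ n u) = c.F.ρ n (c.ρ r' u) := by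
    have e : c.ρ h * c.ρ r' * (c.ρ h)⁻¹ = c.ρ r' := by
      have h1 := hσn 1 ⟨y, s, ⟨hs, hsK⟩, hsy⟩
      rw [pow_one, pow_one, hy] at h1
      rw [hr'd, map_mul, hsy]
      exact h1.symm
    intro u
    have e2 := Equiv.ext_iff.mp (mul_inv_eq_iff_eq_mul.mp e) u
    rw [hhn] at e2
    exact e2.symm
  have hfixv : c.ρ r' v = v := by
    rw [← hx, c.act]
    refine congrArg c.pt (Subtype.ext ?_)
    rw [MulAut.conjNormal_apply]
    exact c.RC_fix hg hr'R
  have hline : ∀ u, c.F.herm u v = 0 → ∃ a, c.ρ r' u = u + c.F.sm a v := by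
    intro u hu
    have hmove : ∀ u, c.F.B u v = 0 → c.ρ r' u + u ∈ c.Abar g := by
      intro u hu
      obtain ⟨y, rfl⟩ := c.D.surj u
      have hyx : Commute y x := (c.B_eq y x).mp (by rw [hx]; exact hu)
      have hyR : ((y : ↥(Cn z)) : G) ∈ centralizer ({((x : ↥(Cn z)) : G)} : Set G) :=
        mem_centralizer_singleton_iff.mpr (congrArg (fun w : ↥(J z) => ((w : ↥(Cn z)) : G)) hyx.eq)
      set w : ↥(J z) := MulAut.conjNormal r' y * y⁻¹ with hw
      refine ⟨w, ?_, ?_⟩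
      · have e : (w : ↥(Cn z)) = r' * ((y : ↥(Cn z)) * r'⁻¹ * (y : ↥(Cn z))⁻¹) := by
          rw [hw, Subgroup.coe_mul, MulAut.conjNormal_apply, Subgroup.coe_inv]; group
        rw [e]
        refine mul_mem hr'R (c.RC_conj hg ?_ (inv_mem hr'R))
        exact Subtype.ext (mul_inv_eq_iff_eq_mul.mpr (mem_centralizer_singleton_iff.mp hyR))
      · show c.D.π w = c.ρ r' (c.pt y) + c.D.π y
        rw [hw, c.D.mul, c.D.π_inv, c.act, c.F.W.neg_eq]
        rfl
    obtain ⟨h1, h2⟩ := (c.F.perp_iff u v).mp hu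
    have hom : c.F.om (c.ρ r' u + u) ∈ c.Abar g := by
      rw [map_add, ← hr'L]
      refine hmove _ ?_
      rw [c.F.B_herm, show c.F.herm (c.F.om u) v = 0 by rw [← c.F.sm_w, c.F.herm_sm, hu, mul_zero]]
      rfl
    obtain ⟨a, ha⟩ := c.line_trivial hg hxz (fun l hl => by rw [hx]; exact hLf l hl) hLA hnL h5
      (fun u hu hp => by rw [hx] at hp ⊢; exact hfx u hu hp) (hmove u h1) hom
    rw [hx] at ha
    exact ⟨a, by rw [← ha, add_comm (c.ρ r' u), ← add_assoc, c.F.dbl, zero_add]⟩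
  have hperp := c.F.fix_perp (hLf n hnL) h5 hfx (c.ρ_add r') hr'L hfixv hcomm hline
  have hid := c.F.eq_id_of_fix_perp he hqv hBv hbad (c.ρ_add r') (c.ρ_q r') hr'L hperp
    (c.orbit_small r' (c.F.orb_self _))
  exact hr'K (c.JK (c.ρ_ker.mp (Equiv.ext hid)))

/-- The linear part of the intersection lies in `K`. -/
theorem linear_le (hg : g * z * g⁻¹ = ((x : ↥(Cn z)) : G)) (hxz : ((x : ↥(Cn z)) : G) ≠ z) {r : ↥(Cn z)}
    (hr : r ∈ c.RC g) (hrL : r ∈ c.HL) : r ∈ c.K := by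
  classical
  haveI := c.Kn
  haveI : Fact (Nat.Prime 5) := ⟨by norm_num⟩
  obtain ⟨v, hvf, hqv, hvn, he, hBv, hbad⟩ := c.F.exists_line
  have hv0 : v ≠ 0 := fun e => hvf 0 (by rw [e, c.F.co_zero])
  have hxns := c.not_small hg hxz
  have hx2 : c.F.q (c.pt x) = 0 ∧ c.pt x ≠ 0 := by
    have hxG : ((x : ↥(Cn z)) : G) * ((x : ↥(Cn z)) : G) = 1 := by
      rw [← hg, show g * z * g⁻¹ * (g * z * g⁻¹) = g * (z * z) * g⁻¹ by group, c.X2g.zz, mul_one, mul_inv_cancel]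
    refine ⟨(c.pt_q x).mpr (Subtype.ext (Subtype.ext hxG)), fun e => ?_⟩
    rcases center_cases c.D.es ((c.D.ker x).mp e) with q | q
    · exact c.x_ne hg (congrArg Subtype.val q)
    · exact hxz ((congrArg (fun w : ↥(J z) => ((w : ↥(Cn z)) : G)) q).trans c.zv)
  obtain ⟨h₀, x', hx', hg', hxz'⟩ := c.move hg hxz (f := v) (((c.small_iff hx2.1 hx2.2).2 hxns).2 v hqv hv0 hvn)
  have hr' : h₀ * r * h₀⁻¹ ∈ c.RC ((h₀ : G) * g) := (c.RC_conjugate h₀).mpr hr
  by_contra hrK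
  have hL : c.HL.Normal := by
    rcases c.HL_index with h | h
    · rw [h]; infer_instance
    · exact normal_of_index_eq_two h
  refine hrK ?_
  have := c.linear_base hg' hxz' hvf hqv he hBv hbad hx' hr' (hL.conj_mem r hrL h₀)
  simpa [mul_assoc] using c.Kn.conj_mem _ this h₀⁻¹

end Ctx

end Cfsg.Lib.FiLargest
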