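import Cfsg.Agent.FiLargest.Conj

/-!
When the centraliser in a normal subgroup lies in `K`, the involution is isolated in that normal subgroup.
-/

set_option autoImplicit false
set_option maxRecDepth 100000
set_option maxHeartbeats 1000000
set_option linter.unusedSectionVars false
set_option linter.style.haveILetI false

namespace Cfsg.Lib.FiLargest

open Subgroup
open Cfsg.Lib.LargeExtra (X2 mem_map_conj mem_zpowers_two)
open Cfsg.Lib.LargeExtra.OutExtra Cfsg.Lib.ExtraOut
open Cfsg.Lib.LargeFischer (rep FSetting card_modEq_fixed)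
open scoped commutatorElement

universe u

theorem zmod2_one : ∀ r : ZMod 2, r ≠ 0 → r = 1 := by decide

namespace Ctx

variable {G : Type u} [Group G] [Finite G] {z : G} (c : Ctx z)

/-- The preimage of a subgroup of the module. -/
def pre (P : AddSubgroup (c.ι → ZMod 2)) : Subgroup ↥(J z) where
  carrier := {y | c.pt y ∈ P}
  one_mem' := by show c.D.π 1 ∈ P; rw [c.D.π_one]; exact zero_mem _
  mul_mem' := fun {a b} (ha : c.D.π a ∈ P) (hb : c.D.π b ∈ P) => by
    show c.D.π (a * b) ∈ P; rw [c.D.mul]; exact add_mem ha hb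
  inv_mem' := fun {a} (ha : c.D.π a ∈ P) => by show c.D.π a⁻¹ ∈ P; rw [c.D.π_inv]; exact neg_mem ha

theorem zq_mem_pre (P : AddSubgroup (c.ι → ZMod 2)) : c.zq ∈ c.pre P := by
  show c.D.π c.zq ∈ P
  rw [c.D.π_z]; exact zero_mem _

theorem pre_card (P : AddSubgroup (c.ι → ZMod 2)) : Nat.card (c.pre P) = 2 * Nat.card P := by
  classical
  let f : P × Bool → c.pre P := fun p => ⟨c.D.s p.1.1 * (if p.2 then c.zq else 1), by
    show c.D.π _ ∈ P
    rw [c.D.mul, c.D.π_s]
    cases p.2 <;> simp [c.D.π_one, c.D.π_z]⟩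
  have hf : Function.Bijective f := by
    constructor
    · rintro ⟨v, i⟩ ⟨w, j⟩ e
      have e' := congrArg (fun q : c.pre P => q.1) e
      simp only [f] at e'
      have hv := congrArg c.D.π e'
      rw [c.D.mul, c.D.mul, c.D.π_s, c.D.π_s] at hv
      have hz1 : c.zq ≠ 1 := c.D.es.z_ne_one
      have hvw : v = w := Subtype.ext (by
        revert hv; cases i <;> cases j <;> simp [c.D.π_one, c.D.π_z])
      subst hvw
      cases i <;> cases j <;> simp_all
    · rintro ⟨y, hy⟩
      have h := c.D.π_s (c.D.π y)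
      rcases center_cases c.D.es (c.D.eq_iff.mp h) with e | e
      · exact ⟨(⟨_, hy⟩, false), Subtype.ext (by simpa [f, pt] using (inv_mul_eq_one.mp e))⟩
      · refine ⟨(⟨_, hy⟩, true), Subtype.ext ?_⟩
        rw [inv_mul_eq_iff_eq_mul] at e
        simp only [f, if_true]
        exact e.symm
  rw [← Nat.card_eq_of_bijective f hf, Nat.card_prod, Nat.card_eq_fintype_card (α := Bool), Fintype.card_bool, mul_comm]

variable (N : Subgroup G) [N.Normal] (hJN : Jg z ≤ N) (hNC : ∀ k : ↥(Cn z), (k : G) ∈ N → k ∈ c.K)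

include c hJN hNC

/-- No other conjugate in the core. -/
theorem no_fusion_core (g : G) (hmem : g * z * g⁻¹ ∈ Jg z) : g * z * g⁻¹ = z := by
  by_contra hne
  obtain ⟨x, hx, he⟩ := hmem
  obtain ⟨r, hr, hrK⟩ := c.exists_outside_K (g := g) (x := ⟨x, hx⟩) he.symm (fun e => hne (he.symm.trans e))
  refine hrK (hNC r ?_)
  have h := Normal.conj_mem inferInstance _ (hJN (c.mem_RC.mp hr)) g
  simpa [mul_assoc] using h

theorem isolated_in {g : G} (hg : g ∈ N) (hcz : Commute z (g * z * g⁻¹)) : g * z * g⁻¹ = z := by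
  classical
  haveI : Fact (Nat.Prime 2) := ⟨Nat.prime_two⟩
  haveI : Fact (Nat.Prime 3) := ⟨by norm_num⟩
  by_contra hne
  set t := g * z * g⁻¹ with ht
  have htt : t * t = 1 := by
    rw [ht, show g * z * g⁻¹ * (g * z * g⁻¹) = g * (z * z) * g⁻¹ by group, c.X2g.zz, mul_one, mul_inv_cancel]
  have htN : t ∈ N := Normal.conj_mem inferInstance _ (hJN c.X2g.mem) g
  let tC : ↥(Cn z) := ⟨t, mem_centralizer_singleton_iff.mpr hcz.symm.eq⟩
  have htK : tC ∈ c.K := hNC tC htN
  have hzJ' : g⁻¹ * z * g ∉ Jg z := fun h => by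
    have h1 := c.no_fusion_core N hJN hNC g⁻¹ (by rwa [inv_inv])
    rw [inv_inv] at h1
    refine hne ?_
    calc t = g * (g⁻¹ * z * g) * g⁻¹ := by rw [h1]
      _ = z := by group
  -- the involution on the module
  let v : (c.ι → ZMod 2) →+ (c.ι → ZMod 2) := AddMonoidHom.mk' (c.ρ tC) (c.ρ_add tC)
  have hvv : ∀ a, v (v a) = a := fun a => by
    show c.ρ tC (c.ρ tC a) = a
    rw [← Equiv.Perm.mul_apply, ← map_mul, show tC * tC = 1 from Subtype.ext htt, map_one]
    rfl
  have hvB : ∀ a b, c.F.B a (v b) = c.F.B (v a) b := fun a b => by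
    conv_lhs => rw [← hvv a]
    exact c.ρ_B tC _ _
  let d1 : (c.ι → ZMod 2) →+ (c.ι → ZMod 2) := AddMonoidHom.id _ + v
  have hBr : ∀ a b e, c.F.B a (b + e) = c.F.B a b + c.F.B a e := fun a b e => by
    rw [c.F.B_symm, c.F.B_add, c.F.B_symm b, c.F.B_symm e]
  have hom : ∀ a, v (c.F.om a) = c.F.om (v a) := fun a => c.om_ρ htK a
  have homB : ∀ a b, c.F.B (c.F.om a) (c.F.om b) = c.F.B a b := fun a b => c.F.B_inv _ a b
  have hf0 : ∀ a, c.F.B a (v a) = 0 := by
    have hadd : ∀ a b, c.F.B (a + b) (v (a + b)) = c.F.B a (v a) + c.F.B b (v b) := fun a b => by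
      rw [map_add, c.F.B_add, hBr, hBr, hvB b a, c.F.B_symm (v b) a]
      generalize c.F.B a (v a) = p, c.F.B a (v b) = q, c.F.B b (v b) = r
      calc p + q + (q + r) = p + r + (q + q) := by abel
        _ = p + r := by rw [c.F.add_self_zmod, add_zero]
    have homf : ∀ a, c.F.B (c.F.om a) (v (c.F.om a)) = c.F.B a (v a) := fun a => by rw [hom, homB]
    intro a
    have h := hadd (c.F.om a) a
    rw [← c.om_om, homf] at h
    simpa using h
  have hq1 : ∀ a, c.F.q (d1 a) = 0 := fun a => by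
    show c.F.q (a + v a) = 0
    rw [c.F.q_add, hf0, add_zero, show c.F.q (v a) = c.F.q a from c.ρ_q tC a, c.F.add_self_zmod]
  have hvd : ∀ a, v (d1 a) = d1 a := fun a => by
    show v (a + v a) = a + v a
    rw [map_add, hvv, add_comm]
  -- commutators with the conjugate
  let σ : ↥(J z) → ↥(J z) := fun y => y * MulAut.conjNormal tC y⁻¹
  have hσG : ∀ y : ↥(J z), ((σ y : ↥(Cn z)) : G) =
      ((y : ↥(Cn z)) : G) * t * ((y : ↥(Cn z)) : G)⁻¹ * t := fun y => by
    simp only [σ, Subgroup.coe_mul, MulAut.conjNormal_apply, Subgroup.coe_inv]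
    rw [show (tC : G) = t from rfl, inv_eq_of_mul_eq_one_right htt]
    group
  have hσpt : ∀ y, c.pt (σ y) = d1 (c.pt y) := fun y => by
    show c.D.π (y * MulAut.conjNormal tC y⁻¹) = c.pt y + c.ρ tC (c.pt y)
    rw [c.D.mul, c.act, pt, map_inv, c.D.π_inv, c.F.W.neg_eq]
    rfl
  let P : AddSubgroup (c.ι → ZMod 2) := d1.range
  let W : AddSubgroup (c.ι → ZMod 2) := d1.ker
  have hPW : Nat.card P * Nat.card W = 4096 := by
    have h := W.card_eq_card_quotient_mul_card_addSubgroup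
    rw [Nat.card_congr (QuotientAddGroup.quotientKerEquivRange d1).toEquiv, c.F.cardV] at h
    exact h.symm
  let F : Subgroup ↥(J z) := (centralizer ({t} : Set G)).comap ((Cn z).subtype.comp (J z).subtype)
  have hmemF : ∀ {y : ↥(J z)}, y ∈ F ↔ Commute ((y : ↥(Cn z)) : G) t := fun {y} => mem_centralizer_singleton_iff
  have hσF : ∀ {y : ↥(J z)}, σ y = 1 ↔ y ∈ F := fun {y} => by
    have e : σ y = 1 ↔ ((σ y : ↥(Cn z)) : G) = 1 :=
      ⟨fun h => by rw [h]; rfl, fun h => Subtype.ext (Subtype.ext h)⟩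
    rw [hmemF, e, hσG, mul_eq_one_iff_eq_inv, inv_eq_of_mul_eq_one_right htt, mul_inv_eq_iff_eq_mul]
    rfl
  have hσcomm : ∀ y, σ y ∈ F := fun y => by
    have h1 : σ y * σ y = 1 := (c.pt_q _).mp (by rw [hσpt]; exact hq1 _)
    have h2 := congrArg (fun w : ↥(J z) => ((w : ↥(Cn z)) : G)) h1
    simp only [Subgroup.coe_mul, Subgroup.coe_one] at h2
    rw [hmemF]
    rw [hσG] at h2 ⊢
    set a := ((y : ↥(Cn z)) : G) * t * ((y : ↥(Cn z)) : G)⁻¹
    have haa : a * a = 1 := by
      simp only [a]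
      rw [show ((y : ↥(Cn z)) : G) * t * ((y : ↥(Cn z)) : G)⁻¹ * (((y : ↥(Cn z)) : G) * t * ((y : ↥(Cn z)) : G)⁻¹) =
        ((y : ↥(Cn z)) : G) * (t * t) * ((y : ↥(Cn z)) : G)⁻¹ by group, htt, mul_one, mul_inv_cancel]
    show a * t * t = t * (a * t)
    rw [mul_assoc, htt, mul_one]
    calc a = a⁻¹ * (a * a) := by group
      _ = a⁻¹ * 1 := by rw [haa]
      _ = a⁻¹ * (a * t * (a * t)) := by rw [h2]
      _ = t * (a * t) := by group
  have hzF : c.zq ∈ F := hmemF.mpr (by rw [c.zv]; exact hcz)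
  let Rh := c.pre P
  have hRhσ : ∀ r ∈ Rh, ∃ y, r = σ y ∨ r = σ y * c.zq := by
    rintro r ⟨a, ha⟩
    obtain ⟨y, rfl⟩ := c.D.surj a
    rcases center_cases c.D.es (c.D.eq_iff.mp ((hσpt y).trans ha : c.D.π (σ y) = c.D.π r)) with e | e
    · exact ⟨y, Or.inl (inv_mul_eq_one.mp e).symm⟩
    · exact ⟨y, Or.inr (inv_mul_eq_iff_eq_mul.mp e)⟩
  have hRhF : Rh ≤ F := fun r hr => by
    obtain ⟨y, rfl | rfl⟩ := hRhσ r hr
    exacts [hσcomm y, mul_mem (hσcomm y) hzF]
  have hRh2 : ∀ r ∈ Rh, r * r = 1 := fun r hr => by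
    obtain ⟨a, ha⟩ := hr
    exact (c.pt_q r).mp (by rw [← ha]; exact hq1 a)
  have hFW : F ≤ c.pre W := fun y hy => by
    show d1 (c.pt y) = 0
    rw [← hσpt, hσF.mpr hy]
    exact c.D.π_one
  have hcentral : Rh ≤ centralizer (F : Set ↥(J z)) := fun r hr => by
    obtain ⟨a, ha⟩ := hr
    refine mem_centralizer_iff.mpr fun f hf => ?_
    refine ((c.B_eq f r).mp ?_).eq
    rw [← ha]
    show c.F.B (c.pt f) (a + v a) = 0
    have hw : c.pt f + v (c.pt f) = 0 := hFW hf
    rw [hBr, hvB, ← c.F.B_add, hw, c.F.B_zero]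
  -- the conjugate core
  let D : Subgroup ↥(J z) := F ⊓ ((Jg z).map (MulAut.conj g).toMonoidHom).comap ((Cn z).subtype.comp (J z).subtype)
  have hmemD : ∀ {y : ↥(J z)}, y ∈ D ↔ y ∈ F ∧ g⁻¹ * ((y : ↥(Cn z)) : G) * g ∈ Jg z := fun {y} => by
    show y ∈ F ∧ _ ↔ _
    exact and_congr_right fun _ => mem_map_conj
  have hσD : ∀ y, σ y ∈ D → σ y = 1 := fun y hy => by
    obtain ⟨-, h⟩ := hmemD.mp hy
    rw [hσG] at h
    set yG := ((y : ↥(Cn z)) : G) with hyG
    have htJ : g⁻¹ * t * g ∈ Jg z := by rw [ht, show g⁻¹ * (g * z * g⁻¹) * g = z by group]; exact c.X2g.mem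
    have h1 : g⁻¹ * (yG * t * yG⁻¹) * g ∈ Jg z := by
      have := mul_mem h htJ
      rwa [show g⁻¹ * (yG * t * yG⁻¹ * t) * g * (g⁻¹ * t * g) = g⁻¹ * (yG * t * yG⁻¹) * (t * t) * g by group, htt,
        mul_one] at this
    have h2 := c.no_fusion_core N hJN hNC (g⁻¹ * yG * g) (by
      rwa [show g⁻¹ * yG * g * z * (g⁻¹ * yG * g)⁻¹ = g⁻¹ * (yG * t * yG⁻¹) * g by rw [ht]; group])
    refine Subtype.ext (Subtype.ext ?_)
    rw [hσG]
    have h3 : yG * t * yG⁻¹ = t := by
      calc yG * t * yG⁻¹ = g * (g⁻¹ * yG * g * z * (g⁻¹ * yG * g)⁻¹) * g⁻¹ := by rw [ht]; group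
        _ = t := by rw [h2]
    rw [h3, htt]; rfl
  have hzD : c.zq ∉ D := fun h => by
    have h1 := (hmemD.mp h).2
    rw [c.zv] at h1
    exact hzJ' h1
  -- the map into the image of `K`
  have hconjK : ∀ f : F, ∃ k : ↥(Cn z), k ∈ c.K ∧ (k : G) = g⁻¹ * ((f.1 : ↥(Cn z)) : G) * g := fun f => by
    have hc : g⁻¹ * ((f.1 : ↥(Cn z)) : G) * g ∈ Cn z := mem_centralizer_singleton_iff.mpr (by
      have h := (hmemF.mp f.2).eq
      calc g⁻¹ * ((f.1 : ↥(Cn z)) : G) * g * z = g⁻¹ * (((f.1 : ↥(Cn z)) : G) * t) * g := by rw [ht]; group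
        _ = g⁻¹ * (t * ((f.1 : ↥(Cn z)) : G)) * g := by rw [h]
        _ = _ := by rw [ht]; group)
    refine ⟨⟨_, hc⟩, hNC _ ?_, rfl⟩
    exact mul_mem (mul_mem (inv_mem hg) (hJN ⟨_, f.1.2, rfl⟩)) hg
  choose kf hkK hkv using hconjK
  let π' : F →* ↥((rep (J z) c.D).comp c.K.subtype).range :=
    MonoidHom.mk' (fun f => c.toX (kf f) (hkK f)) fun a b => Subtype.ext (by
      show c.ρ (kf (a * b)) = c.ρ (kf a) * c.ρ (kf b)
      rw [← map_mul]
      congr 1
      refine Subtype.ext ?_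
      rw [Subgroup.coe_mul, hkv, hkv, hkv]
      simp only [Subgroup.coe_mul]
      group)
  have hker : π'.ker = D.subgroupOf F := by
    ext f
    rw [MonoidHom.mem_ker, mem_subgroupOf]
    constructor
    · intro h
      have h1 : kf f ∈ J z := c.ρ_ker.mp (congrArg Subtype.val h)
      exact hmemD.mpr ⟨f.2, by rw [← hkv]; exact ⟨_, h1, rfl⟩⟩
    · intro h
      obtain ⟨j, hj, he⟩ := (hmemD.mp h).2
      refine Subtype.ext ?_
      show c.ρ (kf f) = 1
      refine c.ρ_ker.mpr ?_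
      rw [show kf f = j from Subtype.ext ((hkv f).trans he.symm)]
      exact hj
  have hJp : IsPGroup 2 ↥(J z) := Cfsg.Lib.Components.isPGroup_pCore 2
  have hcard : ∀ S : Subgroup F, Nat.card S = Nat.card (S.map π') * Nat.card (π'.ker ⊓ S : Subgroup F) := fun S => by
    have h := card_eq_card_quotient_mul_card_subgroup (π'.comp S.subtype).ker
    rw [Nat.card_congr (QuotientGroup.quotientKerEquivRange _).toEquiv, ← MonoidHom.map_range π' S.subtype, range_subtype,
      ← MonoidHom.comap_ker, ← card_map_of_injective S.subtype_injective, map_comap_eq, range_subtype, inf_comm] at h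
    exact h
  have hD64 : Nat.card F ≤ 64 * Nat.card D := by
    have h := hcard ⊤
    rw [card_top, inf_top_eq, hker, Nat.card_congr (subgroupOfEquivOfLe (inf_le_left : D ≤ F)).toEquiv] at h
    rw [h]
    refine Nat.mul_le_mul_right _ ?_
    refine c.derived_X ((hJp.to_subgroup F).to_subgroup ⊤ |>.map π') (π' ⟨c.zq, hzF⟩) ?_
    rintro _ ⟨a, -, rfl⟩ _ ⟨b, -, rfl⟩
    rw [← map_commutatorElement]
    rcases center_cases c.D.es (show ⁅(a : ↥(J z)), (b : ↥(J z))⁆ ∈ center ↥(J z) from (c.D.ker _).mp (by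
      rw [commutatorElement_def, c.D.mul, c.D.mul, c.D.mul, c.D.π_inv, c.D.π_inv]; abel)) with e | e
    · left; rw [show ⁅a, b⁆ = 1 from Subtype.ext e, map_one]
    · right; rw [show ⁅a, b⁆ = ⟨c.zq, hzF⟩ from Subtype.ext e]
  have helem : ∀ S : Subgroup ↥(J z), S ≤ F → (∀ y ∈ S, y * y = 1) →
      Nat.card S ≤ 16 * Nat.card (D ⊓ S : Subgroup ↥(J z)) := by
    intro S hS h2
    have h := hcard (S.subgroupOf F)
    rw [hker, Nat.card_congr (subgroupOfEquivOfLe hS).toEquiv,
      show D.subgroupOf F ⊓ S.subgroupOf F = (D ⊓ S).subgroupOf F from rfl,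
      Nat.card_congr (subgroupOfEquivOfLe (inf_le_right.trans hS : D ⊓ S ≤ F)).toEquiv] at h
    rw [h]
    refine Nat.mul_le_mul_right _ (c.elem_X ?_)
    rintro _ ⟨a, ha, rfl⟩
    rw [← map_mul, show a * a = 1 from Subtype.ext (h2 _ ha), map_one]
  have hDcent : D ≤ centralizer (F : Set ↥(J z)) := fun d hd => mem_centralizer_iff.mpr fun f hf => by
    have h1 : f * d * f⁻¹ * d⁻¹ ∈ D := by
      refine mul_mem ?_ (inv_mem hd)
      obtain ⟨hdF, hdJ⟩ := hmemD.mp hd
      refine hmemD.mpr ⟨mul_mem (mul_mem hf hdF) (inv_mem hf), ?_⟩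
      have hk := hkv ⟨f, hf⟩
      have h := (mem_normalizer_iff.mp (c.CN (kf ⟨f, hf⟩).2) _).mp hdJ
      rw [hk] at h
      simp only [Subgroup.coe_mul, Subgroup.coe_inv]
      convert h using 1; group
    rcases center_cases c.D.es (show f * d * f⁻¹ * d⁻¹ ∈ center ↥(J z) from (c.D.ker _).mp (by
      rw [c.D.mul, c.D.mul, c.D.mul, c.D.π_inv, c.D.π_inv]; abel)) with e | e
    · exact mul_inv_eq_iff_eq_mul.mp (mul_inv_eq_one.mp e)
    · exact absurd (e ▸ h1) hzD
  have hbound : Nat.card F * Nat.card (centralizer (F : Set ↥(J z))) ≤ 2 ^ 14 := by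
    have h1 := Cfsg.Lib.ExtraAction.mul_card_mono c.hE _ F ⊤ le_top le_rfl
    rw [coe_top, centralizer_univ, card_top, c.hE.2, c.card] at h1
    exact h1.trans (by norm_num)
  have hRhc := c.pre_card P
  have hWc := c.pre_card W
  obtain ⟨kP, hkP, hP2⟩ : ∃ k ≤ 12, Nat.card P = 2 ^ k := by
    have hd : Nat.card P ∣ 2 ^ 12 := by
      have := P.card_addSubgroup_dvd_card
      rwa [c.F.cardV] at this
    exact (Nat.dvd_prime_pow Nat.prime_two).mp hd
  by_cases hS : ∃ y₀, σ y₀ = c.zq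
  · -- the centre is a commutator
    obtain ⟨y₀, hy₀⟩ := hS
    have hy₀c : ∀ y, Commute y₀ (σ y) := fun y => (c.B_eq _ _).mp (by
      rw [hσpt]
      show c.F.B (c.pt y₀) (c.pt y + v (c.pt y)) = 0
      rw [hBr, hvB, ← c.F.B_add, show c.pt y₀ + v (c.pt y₀) = 0 by
        rw [show c.pt y₀ + v (c.pt y₀) = d1 (c.pt y₀) from rfl, ← hσpt, hy₀]; exact c.D.π_z, c.F.B_zero])
    have hRS : ∀ r ∈ Rh, ∃ y, r = σ y := fun r hr => by
      obtain ⟨y, rfl | rfl⟩ := hRhσ r hr
      · exact ⟨y, rfl⟩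
      · refine ⟨y₀ * y, ?_⟩
        have e : σ (y₀ * y) = y₀ * σ y * y₀⁻¹ * σ y₀ := by
          simp only [σ, _root_.mul_inv_rev, map_mul]; group
        rw [e, hy₀, (hy₀c y).eq, mul_inv_cancel_right]
    have hDR : D ⊓ Rh = ⊥ := by
      rw [eq_bot_iff]
      rintro r ⟨hrD, hrR⟩
      obtain ⟨y, rfl⟩ := hRS r hrR
      exact (mem_bot).mpr (hσD y hrD)
    have hDRc : Nat.card D * Nat.card Rh ≤ Nat.card (centralizer (F : Set ↥(J z))) := by
      rw [← Nat.card_prod]
      refine Nat.card_le_card_of_injective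
        (fun p : D × Rh => (⟨p.1.1 * p.2.1, mul_mem (hDcent p.1.2) (hcentral p.2.2)⟩ : centralizer (F : Set ↥(J z)))) ?_
      intro a b e
      exact mul_injective_of_disjoint (disjoint_iff.mpr hDR) (congrArg Subtype.val e)
    have hFhalf : Nat.card (c.pre W) ≤ 2 * Nat.card F := by
      let f : c.pre W → F × Bool := fun y =>
        if hy : y.1 ∈ F then (⟨y.1, hy⟩, true) else (⟨y₀⁻¹ * y.1, by
          have h1 : σ y.1 = c.zq := by
            have h0 : c.pt (σ y.1) = 0 := (hσpt _).trans y.2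
            exact (center_cases c.D.es ((c.D.ker _).mp h0)).resolve_left fun h => hy (hσF.mp h)
          have h2 : ((σ y.1 : ↥(Cn z)) : G) = ((σ y₀ : ↥(Cn z)) : G) := by rw [h1, hy₀]
          rw [hσG, hσG] at h2
          have h3 := mul_right_cancel h2
          rw [hmemF]
          simp only [Subgroup.coe_mul, Subgroup.coe_inv]
          set a := ((y.1 : ↥(Cn z)) : G)
          set b := ((y₀ : ↥(Cn z)) : G)
          show b⁻¹ * a * t = t * (b⁻¹ * a)
          calc b⁻¹ * a * t = b⁻¹ * (a * t * a⁻¹) * a := by group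
            _ = b⁻¹ * (b * t * b⁻¹) * a := by rw [h3]
            _ = _ := by group⟩, false)
      have hf : Function.Injective f := fun a b e => by
        simp only [f] at e
        split_ifs at e with ha hb hb <;>
          simp only [Prod.mk.injEq, Bool.true_eq_false, Bool.false_eq_true, and_false, and_true] at e
        · exact Subtype.ext (congrArg (fun w : F => (w : ↥(J z))) e)
        · exact Subtype.ext (mul_left_cancel (congrArg (fun w : F => (w : ↥(J z))) e))
      have := Nat.card_le_card_of_injective f hf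
      rwa [Nat.card_prod, Nat.card_eq_fintype_card (α := Bool), Fintype.card_bool, mul_comm _ 2] at this
    have he := helem Rh hRhF hRh2
    rw [hDR, card_bot, mul_one, hRhc] at he
    -- numbers
    have h1 : Nat.card F * (Nat.card D * Nat.card Rh) ≤ 2 ^ 14 := (Nat.mul_le_mul_left _ hDRc).trans hbound
    rw [hRhc] at h1
    rw [hWc] at hFhalf
    rw [hP2] at he h1 hPW
    have : kP ≤ 3 := by
      by_contra hlt
      have := Nat.pow_le_pow_right (show 1 ≤ 2 by norm_num) (show 4 ≤ kP by omega)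
      omega
    have hWF : Nat.card W ≤ Nat.card F := by omega
    have h4 : Nat.card W * Nat.card W * (2 * 2 ^ kP) ≤ 64 * 2 ^ 14 := calc
      _ ≤ Nat.card F * (64 * Nat.card D) * (2 * 2 ^ kP) :=
        Nat.mul_le_mul_right _ (Nat.mul_le_mul hWF (hWF.trans hD64))
      _ = 64 * (Nat.card F * (Nat.card D * (2 * 2 ^ kP))) := by ring
      _ ≤ _ := Nat.mul_le_mul_left _ h1
    clear hFhalf hWc hWF
    generalize Nat.card W = w at hPW h4
    interval_cases kP
    · obtain rfl : w = 4096 := by omega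
      omega
    · obtain rfl : w = 2048 := by omega
      omega
    · obtain rfl : w = 1024 := by omega
      omega
    · obtain rfl : w = 512 := by omega
      omega
  · -- the centre is no commutator
    push Not at hS
    have hFW' : c.pre W ≤ F := fun y hy => hσF.mp <| by
      have h0 : c.pt (σ y) = 0 := (hσpt _).trans hy
      exact (center_cases c.D.es ((c.D.ker _).mp h0)).resolve_right (hS y)
    have hFeq : Nat.card F = 2 * Nat.card W := by rw [le_antisymm hFW hFW', hWc]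
    have hCF : centralizer (F : Set ↥(J z)) = Rh := by
      refine (eq_of_le_of_card_ge hcentral ?_).symm
      refine Nat.le_of_mul_le_mul_left (hbound.trans ?_) (Nat.card_pos (α := F))
      rw [hFeq, hRhc, show 2 * Nat.card W * (2 * Nat.card P) = 4 * (Nat.card P * Nat.card W) by ring, hPW]
      norm_num
    have hDle : D ≤ Rh := hCF ▸ hDcent
    have he := helem Rh hRhF hRh2
    rw [inf_of_le_left hDle, hRhc] at he
    have h3 : Nat.card P % 3 = 1 := by
      have hmemP : ∀ a, a ∈ P ↔ c.F.W.t (Pi.single 0 1) a ∈ P := by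
        intro a
        constructor
        · rintro ⟨b, rfl⟩
          refine ⟨c.F.om b, ?_⟩
          show c.F.om b + v (c.F.om b) = c.F.om (b + v b)
          rw [hom, map_add]
        · rintro ⟨b, hb⟩
          refine ⟨c.F.om (c.F.om b), ?_⟩
          show c.F.om (c.F.om b) + v (c.F.om (c.F.om b)) = a
          rw [hom, hom, ← map_add, ← map_add, show b + v b = c.F.om a from hb, c.om_three]
      let τ : Equiv.Perm P := Equiv.ofBijective
        (fun a : P => (⟨c.F.om a.1, (hmemP a.1).mp a.2⟩ : P))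
        (Finite.injective_iff_bijective.mp fun a b e => Subtype.ext (c.om_inj (congrArg Subtype.val e)))
      have hτ : τ ^ 3 = 1 := Equiv.ext fun a => Subtype.ext (by
        simp only [pow_succ, pow_zero, one_mul, Equiv.Perm.mul_apply, Equiv.Perm.one_apply]
        exact c.om_three a.1)
      rw [card_modEq_fixed τ hτ]
      haveI : Unique {a : P // τ a = a} :=
        { default := ⟨0, Subtype.ext (map_zero c.F.om)⟩
          uniq := fun a => Subtype.ext (Subtype.ext (c.om_fix (congrArg Subtype.val a.2))) }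
      simp
    have hD8 : 8 ≤ Nat.card D := by
      rw [hP2] at he h3 hPW
      rw [hFeq] at hD64
      by_contra hlt
      have : kP ≤ 5 := by
        by_contra hk
        have := Nat.pow_le_pow_right (show 1 ≤ 2 by norm_num) (show 6 ≤ kP by omega)
        omega
      interval_cases kP <;> omega
    obtain ⟨d, hdD, hd1⟩ : ∃ d ∈ D, d ≠ 1 := by
      by_contra! hn
      rw [show D = ⊥ from (eq_bot_iff_forall _).mpr hn, card_bot] at hD8
      omega
    have hform : ∀ d ∈ D, d ≠ 1 → ∃ y, d = σ y * c.zq := fun d hd hne' => by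
      obtain ⟨y, hy | hy⟩ := hRhσ d (hDle hd)
      · exact absurd (hy.trans (hσD y (hy ▸ hd))) hne'
      · exact ⟨y, hy⟩
    obtain ⟨y1, hy1⟩ := hform d hdD hd1
    let f : ↥(J z) → ZMod 2 := fun e => c.F.B (c.pt y1) (c.pt e)
    have hfm : ∀ a b, f (a * b) = f a + f b := fun a b => by
      show c.F.B _ (c.D.π (a * b)) = _
      rw [c.D.mul, hBr]; rfl
    obtain ⟨e, heD, he1, hed, hfe⟩ : ∃ e ∈ D, e ≠ 1 ∧ e ≠ d ∧ f e = 0 := by
      by_contra! hn
      have hpick : ∀ s : Finset ↥(J z), s.card < 8 → ∃ a ∈ D, a ∉ s := fun s hs => by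
        by_contra! hn'
        have := Nat.card_le_card_of_injective (fun a : D => (⟨a.1, hn' a.1 a.2⟩ : s)) fun a b q =>
          Subtype.ext (congrArg (fun w : s => (w : ↥(J z))) q)
        rw [Nat.card_eq_fintype_card (α := s), Fintype.card_coe] at this
        omega
      have h01 : ∀ r : ZMod 2, r ≠ 0 → r = 1 := zmod2_one
      obtain ⟨a, haD, ha⟩ := hpick {1, d} (Finset.card_le_two.trans_lt (by norm_num))
      obtain ⟨b, hbD, hb⟩ := hpick {1, d, a⁻¹, a⁻¹ * d} (Finset.card_le_four.trans_lt (by norm_num))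
      simp only [Finset.mem_insert, Finset.mem_singleton, not_or] at ha hb
      obtain ⟨hb1, hb2, hb3, hb4⟩ := hb
      refine hn (a * b) (mul_mem haD hbD) (fun h => hb3 (eq_inv_of_mul_eq_one_right h)) (fun h => hb4 (by rw [← h]; group)) ?_
      rw [hfm, h01 _ (hn a haD ha.1 ha.2), h01 _ (hn b hbD hb1 hb2)]
      rfl
    obtain ⟨y2, hy2⟩ := hform e heD he1
    have hcomm : Commute y1 (σ y2) := (c.B_eq _ _).mp (by
      have : c.pt (σ y2) = c.pt e := by
        show c.D.π (σ y2) = c.D.π e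
        rw [hy2]
        conv_rhs => rw [c.D.mul, c.D.π_z, add_zero]
      rw [this]; exact hfe)
    have hσ12 : σ (y1 * y2) = e * d := by
      have h : σ (y1 * y2) = y1 * σ y2 * y1⁻¹ * σ y1 := by simp only [σ, _root_.mul_inv_rev, map_mul]; group
      rw [h, hcomm.eq, mul_inv_cancel_right, hy2, hy1]
      have hzc : ∀ w : ↥(J z), c.zq * w = w * c.zq := fun w =>
        (mem_center_iff.mp (c.D.es.cen ▸ mem_zpowers c.zq) w).symm
      have hzz : c.zq * c.zq = 1 := (c.pt_q c.zq).mp (by rw [show c.pt c.zq = 0 from c.D.π_z, c.F.q_zero])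
      calc σ y2 * σ y1 = σ y2 * σ y1 * (c.zq * c.zq) := by rw [hzz, mul_one]
        _ = σ y2 * (σ y1 * c.zq) * c.zq := by group
        _ = σ y2 * (c.zq * σ y1) * c.zq := by rw [hzc (σ y1)]
        _ = _ := by group
    have hmem : σ (y1 * y2) ∈ D := hσ12 ▸ mul_mem heD hdD
    have h1 := hσD _ hmem
    rw [hσ12] at h1
    exact hed ((eq_inv_of_mul_eq_one_left h1).trans (inv_eq_of_mul_eq_one_right (hRh2 d (hDle hdD))))

end Ctx

end Cfsg.Lib.FiLargest
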