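import Cfsg.Agent.FiLargest.Orbit

/-!
The linear part of the centraliser is larger than `K` by at most the exchange of two planes.
-/

set_option autoImplicit false
set_option maxRecDepth 100000
set_option maxHeartbeats 1000000
set_option linter.unusedSectionVars false
set_option linter.style.haveILetI false

namespace Cfsg.Lib.FiLargest

open Subgroup Matrix
open Cfsg.Lib.LargeExtra.OutExtra
open Cfsg.Lib.LargeFischer (rep FSetting F4 w4 wp C5 pw3 code4 code4_bijective cls Sing6 supp6 f4_semilinear f4_cube)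

universe u v w

section Sym

variable {X : Type u} [Group X] {S : Type w} [Group S] {V : Type v} [AddCommGroup V] [Finite V]
  (F : FSetting X S V)

/-- The four by four part of a map. -/
noncomputable def pt4 (s : V → V) (x : Fin 4 → F4) : Fin 4 → F4 := fun i => F.co i.succ.succ (s (F.low x))

theorem pt4_low {s : V → V} (hs : F.Sym s) (h0 : s F.v0 = F.v0) (x : Fin 4 → F4) :
    s (F.low x) = F.low (pt4 F s x) + F.line (F.co 0 (s (F.low x))) := F.sym_low hs h0 x

theorem pt4_comp {s t : V → V} (hs : F.Sym s) (hs0 : s F.v0 = F.v0) (ht : F.Sym t) (ht0 : t F.v0 = F.v0)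
    (x : Fin 4 → F4) : pt4 F (fun v => s (t v)) x = pt4 F s (pt4 F t x) := funext fun i => by
  show F.co _ (s (t (F.low x))) = F.co _ (s (F.low (pt4 F t x)))
  rw [pt4_low F ht ht0 x, hs.add, F.sym_line hs hs0, F.co_add, F.co_line]
  simp

theorem pt4_add {s : V → V} (hs : F.Sym s) (x y : Fin 4 → F4) : pt4 F s (x + y) = pt4 F s x + pt4 F s y :=
  funext fun i => by
    show F.co _ (s (F.low (x + y))) = _
    rw [F.low_add, hs.add, F.co_add]; rfl

theorem pt4_om {s : V → V} (hs : F.Sym s) (x : Fin 4 → F4) : pt4 F s (w4 • x) = w4 • pt4 F s x := funext fun i => by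
  show F.co _ (s (F.low (w4 • x))) = w4 * F.co _ _
  rw [← F.om_low, hs.om, F.co_om]

theorem pt4_herm {s : V → V} (hs : F.Sym s) (h0 : s F.v0 = F.v0) (x y : Fin 4 → F4) :
    Cfsg.hermForm 4 F4 2 (pt4 F s x) (pt4 F s y) = Cfsg.hermForm 4 F4 2 x y := by
  have hB : ∀ a b : Fin 4 → F4, F.B (F.low a) (F.low b) = (Cfsg.hermForm 4 F4 2 a b).im := fun a b => by
    rw [F.B_co, Cfsg.hermForm, Fin.sum_univ_succ, Fin.sum_univ_succ]
    simp [F.co_low]
  have key : ∀ a b, (Cfsg.hermForm 4 F4 2 (pt4 F s a) (pt4 F s b)).im = (Cfsg.hermForm 4 F4 2 a b).im := fun a b => by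
    rw [← hB, ← hB, ← hs.B (F.low a) (F.low b), pt4_low F hs h0 a, pt4_low F hs h0 b, F.B_co, F.B_co]
    congr 1
    simp only [F.co_add, F.co_low, F.co_line, Fin.sum_univ_succ]
    simp [pt4]
    rw [← add_assoc (F.co 0 _ * _), Cfsg.Lib.LargeFischer.f4_two, zero_add]
  refine (Cfsg.Lib.LargeFischer.f4_herm _ _).mpr ⟨key x y, ?_⟩
  have h := key (w4 • x) y
  rw [pt4_om F hs] at h
  simpa [Cfsg.hermForm, Finset.mul_sum, mul_assoc] using h

/-- The scaling of the third plane. -/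
noncomputable def hd (d : F4) (v : V) : V := F.mk6 fun i => (if i = 2 then d else 1) * F.co i v

theorem hd_co (d : F4) (v : V) (i : Fin 6) : F.co i (hd F d v) = (if i = 2 then d else 1) * F.co i v := F.co_mk6 _ _

theorem f4_norm : ∀ d a b : F4, d ≠ 0 → d * a * (d * b) ^ 2 = a * b ^ 2 := by decide +kernel

theorem q_scale (a b : Fin 6 → F4) (h : ∀ i, a i = 0 ↔ b i = 0) : F.q (F.mk6 a) = F.q (F.mk6 b) := by
  rw [← F.dec_code, ← F.dec_code, F.q_dec, F.q_dec]
  congr 2
  ext i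
  simp only [Cfsg.Lib.LargeFischer.mem_supp6, show (none : Option (ZMod 3)) = code4 0 by decide +kernel,
    code4_bijective.1.ne_iff, ne_eq, h i]

theorem hd_sym {d : F4} (hd0 : d ≠ 0) : F.Sym (hd F d) where
  add a b := F.co_ext fun i => by rw [hd_co, F.co_add, F.co_add, hd_co, hd_co, mul_add]
  B a b := by
    rw [F.B_co, F.B_co]
    congr 1
    refine Finset.sum_congr rfl fun i _ => ?_
    rw [hd_co, hd_co]
    split
    · exact f4_norm d _ _ hd0
    · rw [one_mul, one_mul]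
  q a := by
    conv_rhs => rw [← F.mk6_co a]
    refine q_scale F _ _ fun i => ?_
    split <;> simp [hd0]
  om a := F.co_ext fun i => by rw [F.co_om, hd_co, hd_co, F.co_om]; ring

theorem hd_v0 (d : F4) : hd F d F.v0 = F.v0 := F.co_ext fun i => by
  rw [hd_co, F.co_v0]
  fin_cases i <;> simp [FSetting.v0c]

theorem hd_low (d : F4) (x : Fin 4 → F4) :
    hd F d (F.low x) = F.low (fun i => (if i = 0 then d else 1) * x i) := F.co_ext fun i => by
  rw [hd_co, F.co_low, F.co_low]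
  fin_cases i <;> simp

theorem hd_comp {d e : F4} (h : d * e = 1) (v : V) : hd F d (hd F e v) = v := F.co_ext fun i => by
  rw [hd_co, hd_co, ← mul_assoc]
  split <;> simp [h]

theorem sym_comp {s t : V → V} (hs : F.Sym s) (ht : F.Sym t) : F.Sym fun v => s (t v) where
  add a b := by rw [ht.add, hs.add]
  B a b := by rw [hs.B, ht.B]
  q a := by rw [hs.q, ht.q]
  om a := by rw [ht.om, hs.om]

end Sym

theorem class_move : ∀ (k : Fin 5) (d : F4), k ≠ 0 → k ≠ 1 → d ≠ 0 → d ≠ 1 → ∃ a : ZMod 3,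
    let x : Fin 6 → F4 := ![1, 1, 1, 1, 1, wp a]
    let y : Fin 6 → F4 := fun i => (if i = 2 then d else 1) * x i
    let y' : Fin 6 → F4 := fun i => y (Equiv.swap (0 : Fin 6) 1 i)
    Sing6 (fun i => code4 (x i)) ∧ cls (fun i => code4 (x i)) = k ∧
      Sing6 (fun i => code4 (y i)) ∧ cls (fun i => code4 (y i)) ≠ 0 ∧ cls (fun i => code4 (y i)) ≠ k ∧
      Sing6 (fun i => code4 (y' i)) ∧ cls (fun i => code4 (y' i)) ≠ 0 ∧ cls (fun i => code4 (y' i)) ≠ k := by
  decide +kernel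

namespace Ctx

variable {G : Type u} [Group G] [Finite G] {z : G} (c : Ctx z)

theorem sym_of_lin {g : ↥(Cn z)} (hg : c.Lin g) : c.F.Sym (c.ρ g) := ⟨c.ρ_add g, c.ρ_B g, c.ρ_q g, hg⟩

theorem det_part (k : c.F.K0) : (c.F.partHom k).det = 1 := by
  classical
  haveI := c.F.finiteX
  obtain ⟨hs, hc⟩ := Cfsg.Lib.LargeFischer.psu_four
  haveI := hs
  let e : ↥(Cfsg.SU 4 F4 2) ≃* Cfsg.PSU 4 F4 2 :=
    QuotientGroup.quotientBot.symm.trans (QuotientGroup.quotientMulEquivOfEq Cfsg.Lib.LargeFischer.center_su_four.symm)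
  haveI : IsSimpleGroup ↥(Cfsg.SU 4 F4 2) := e.isSimpleGroup
  haveI : IsSimpleGroup c.F.K0 := (MulEquiv.ofBijective c.F.toSU c.F.toSU_bijective).isSimpleGroup
  let du : c.F.K0 →* F4ˣ := ((Matrix.detMonoidHom).comp c.F.partHom).toHomUnits
  rcases IsSimpleGroup.eq_bot_or_eq_top_of_normal du.ker inferInstance with h | h
  · exfalso
    have h1 := Nat.card_le_card_of_injective du (du.ker_eq_bot_iff.mp h)
    rw [c.F.K0_card, Nat.card_eq_fintype_card, Fintype.card_units, Cfsg.Lib.LargeFischer.card_F4] at h1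
    omega
  · have h1 : du k = 1 := MonoidHom.mem_ker.mp (by rw [h]; exact mem_top k)
    have h2 := congrArg Units.val h1
    simp only [du, MonoidHom.coe_toHomUnits, MonoidHom.comp_apply, Units.val_one] at h2
    exact h2

theorem lin_cases {g : ↥(Cn z)} (hg : c.Lin g) : g ∈ c.K ∨
    ∃ k ∈ c.K, ∀ v, c.ρ (k * g) v = c.F.mk6 fun i => c.F.co (Equiv.swap (0 : Fin 6) 1 i) v := by
  classical
  haveI := c.Kn
  -- move the base point back
  obtain ⟨x, hx⟩ := c.orbit_small g (c.F.orb_self _)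
  obtain ⟨k, hk, -, hxk⟩ := c.exists_lift x
  set g1 := k⁻¹ * g with hg1d
  have hg1L : c.Lin g1 := mul_mem (c.K_le_HL (inv_mem hk)) (show g ∈ c.HL from hg)
  have hg10 : c.ρ g1 c.F.v0 = c.F.v0 := by
    rw [map_mul, Equiv.Perm.mul_apply, ← hx, hxk, ← Equiv.Perm.mul_apply, ← map_mul, inv_mul_cancel, map_one]
    rfl
  -- its four by four part
  have hs1 := c.sym_of_lin hg1L
  let M : Matrix (Fin 4) (Fin 4) F4 := LinearMap.toMatrix'
    { toFun := pt4 c.F (c.ρ g1), map_add' := pt4_add c.F hs1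
      map_smul' := f4_semilinear (AddMonoidHom.mk' _ (pt4_add c.F hs1)) (pt4_om c.F hs1) }
  have hM : ∀ y, M *ᵥ y = pt4 c.F (c.ρ g1) y := fun y => LinearMap.toMatrix'_mulVec _ y
  have hMd : M.det ≠ 0 := fun h0 => by
    obtain ⟨y, hy0, hy⟩ := Matrix.exists_mulVec_eq_zero_iff.mpr h0
    obtain ⟨i, hi⟩ := Function.ne_iff.mp hy0
    have h := pt4_herm c.F hs1 hg10 y (Pi.single i 1)
    rw [← hM, hy] at h
    simp only [Cfsg.hermForm, Pi.zero_apply, zero_mul, Finset.sum_const_zero, Pi.single_apply, ite_pow, one_pow,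
      mul_ite, mul_one] at h
    simp at h
    exact hi h.symm
  set d := M.det with hd_def
  have hdd : d * d ^ 2 = 1 := by rw [← pow_succ', f4_cube _ hMd]
  let D : Fin 4 → F4 := fun i => if i = 0 then d ^ 2 else 1
  let A : ↥(Cfsg.SU 4 F4 2) := ⟨⟨diagonal D * M, by
    rw [det_mul, det_diagonal, Fin.prod_univ_four, ← hd_def]
    simp only [D, Fin.reduceEq, if_false, if_true, mul_one]
    rw [mul_comm, hdd]⟩, fun y y' => by
      show Cfsg.hermForm 4 F4 2 ((diagonal D * M) *ᵥ y) ((diagonal D * M) *ᵥ y') = _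
      rw [← mulVec_mulVec, ← mulVec_mulVec, hM, hM, ← pt4_herm c.F hs1 hg10 y y']
      refine Finset.sum_congr rfl fun i _ => ?_
      rw [mulVec_diagonal, mulVec_diagonal]
      exact f4_norm _ _ _ (by simp only [D]; split <;> simp [hMd])⟩
  obtain ⟨k0, hk0⟩ := c.F.toSU_bijective.2 A
  have hk0M : c.F.partHom k0 = diagonal D * M := by
    have h : (c.F.partHom k0).det ^ 2 • c.F.partHom k0 = diagonal D * M :=
      congrArg (fun a : ↥(Cfsg.SU 4 F4 2) => a.1.1) hk0
    rwa [c.det_part, one_pow, one_smul] at h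
  obtain ⟨l, hl, hle, hlρ⟩ := c.exists_lift ((k0⁻¹ : c.F.K0) : _)
  have hl0 : c.ρ l c.F.v0 = c.F.v0 := by rw [← hlρ]; exact (k0⁻¹).2
  set g2 := g1 * l with hg2d
  have hg2L : c.Lin g2 := mul_mem (show g1 ∈ c.HL from hg1L) (c.K_le_HL hl)
  have hs2 := c.sym_of_lin hg2L
  have hg20 : c.ρ g2 c.F.v0 = c.F.v0 := by rw [map_mul, Equiv.Perm.mul_apply, hl0, hg10]
  let E : Fin 4 → F4 := fun i => if i = 0 then d else 1
  have hP : ∀ y, pt4 c.F (c.ρ g2) y = fun i => E i * y i := by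
    intro y
    have hsl := c.sym_of_lin (c.K_le_HL hl)
    rw [show pt4 c.F (c.ρ g2) y = pt4 c.F (fun v => c.ρ g1 (c.ρ l v)) y by rw [hg2d, map_mul]; rfl,
      pt4_comp c.F hs1 hg10 hsl hl0, ← hM]
    have h1 : pt4 c.F (c.ρ l) y = c.F.partHom k0⁻¹ *ᵥ y := by
      rw [← hlρ]; exact (c.F.partMat_mulVec _ y).symm
    have h2 : M = diagonal E * c.F.partHom k0 := by
      rw [hk0M, ← mul_assoc, diagonal_mul_diagonal, show (fun i => E i * D i) = fun _ => (1 : F4) from funext fun i => by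
        simp only [E, D]; split <;> simp [hdd], diagonal_one, one_mul]
    rw [h1, h2, mulVec_mulVec, mul_assoc, ← map_mul, mul_inv_cancel, map_one, mul_one]
    exact funext fun i => mulVec_diagonal _ _ i
  -- commutation with the torus
  have htor : ∀ {e : Fin 4 → ZMod 3}, ∑ i, e i = 0 → ∀ y,
      c.F.co 0 (c.ρ g2 (c.F.low fun i => wp (e i) * y i)) = c.F.co 0 (c.ρ g2 (c.F.low y)) := by
    intro e he y
    obtain ⟨t, ht, hΦ⟩ := c.F.exists_torus he
    obtain ⟨m, hm, -, hmρ⟩ := c.exists_lift (c.F.E.α t)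
    have hm0 : c.ρ m c.F.v0 = c.F.v0 := by rw [← hmρ]; exact ht
    have hsm := c.sym_of_lin (c.K_le_HL hm)
    have hPm : ∀ u, pt4 c.F (c.ρ m) u = fun i => wp (e i) * u i := fun u => by
      funext i
      rw [pt4, ← hmρ, c.F.torus_low hΦ, c.F.co_low]
      simp
    set q := g2 * m * g2⁻¹ * m⁻¹ with hqd
    have hq : q ∈ c.K := mul_mem (c.Kn.conj_mem m hm g2) (inv_mem hm)
    have hinv : ∀ u : ↥(Cn z), c.ρ u c.F.v0 = c.F.v0 → c.ρ u⁻¹ c.F.v0 = c.F.v0 := fun u hu => by
      rw [map_inv, Equiv.Perm.coe_inv, Equiv.symm_apply_eq, hu]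
    have hq0 : c.ρ q c.F.v0 = c.F.v0 := by
      simp only [hqd, map_mul, Equiv.Perm.mul_apply]
      rw [hinv m hm0, hinv g2 hg20, hm0, hg20]
    have hqx : c.toX q hq ∈ c.F.K0 := by
      show c.F.ρ (c.toX q hq) c.F.v0 = c.F.v0
      rw [c.toX_apply, hq0]
    have hq1 : c.toX q hq = 1 := c.F.part_trivial hqx fun u => by
      obtain ⟨u', hu'⟩ : ∃ u', (fun i => wp (e i) * (E i * u' i)) = u := ⟨fun i => (wp (e i) * E i)⁻¹ * u i,
        funext fun i => by
          have : wp (e i) * E i ≠ 0 := mul_ne_zero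
            (fun h => by have := Cfsg.Lib.LargeFischer.wp_inj_neg (e i); rw [h, zero_mul] at this; exact zero_ne_one this)
            (by simp only [E]; split <;> simp [hMd])
          rw [← mul_assoc, mul_inv_cancel_left₀ this]⟩
      have hqs := c.sym_of_lin (c.K_le_HL hq)
      have e1 : pt4 c.F (c.ρ q) (fun i => wp (e i) * (E i * u' i)) = fun i => E i * (wp (e i) * u' i) := by
        have h1 : pt4 c.F (fun v => c.ρ q (c.ρ m (c.ρ g2 v))) u' = pt4 c.F (fun v => c.ρ g2 (c.ρ m v)) u' := by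
          congr 1
          funext v
          simp only [← Equiv.Perm.mul_apply, ← map_mul]
          congr 2
          rw [hqd]; group
        rw [pt4_comp c.F hqs hq0 (sym_comp c.F hsm hs2) (by rw [hg20, hm0]), pt4_comp c.F hsm hm0 hs2 hg20,
          pt4_comp c.F hs2 hg20 hsm hm0, hP, hPm, hPm, hP] at h1
        exact h1
      show pt4 c.F (c.F.ρ (c.toX q hq)) u = u
      rw [show pt4 c.F (c.F.ρ (c.toX q hq)) u = pt4 c.F (c.ρ q) u by rw [c.Fρ]; rfl, ← hu', e1]
      funext i; ring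
    have hcomm : ∀ v, c.ρ g2 (c.ρ m v) = c.ρ m (c.ρ g2 v) := fun v => by
      have h := c.toX_apply q hq (c.ρ m (c.ρ g2 v))
      rw [hq1, map_one, Equiv.Perm.one_apply] at h
      rw [h, hqd]
      simp only [← Equiv.Perm.mul_apply, ← map_mul]
      congr 2; group
    have e2 : c.ρ m (c.F.low y) = c.F.low fun i => wp (e i) * y i := by rw [← hmρ, c.F.torus_low hΦ]
    rw [← e2, hcomm, pt4_low c.F hs2 hg20, c.ρ_add, c.F.sym_line hsm hm0, c.F.co_add, c.F.co_add, c.F.co_line,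
      ← hmρ, c.F.torus_low hΦ, c.F.co_low, c.F.co_low]
    simp
  have hshift : ∀ y, c.ρ g2 (c.F.low y) = c.F.low fun i => E i * y i := by
    let L : (Fin 4 → F4) →+ F4 := AddMonoidHom.mk' (fun y => c.F.co 0 (c.ρ g2 (c.F.low y))) fun a b => by
      rw [c.F.low_add, c.ρ_add, c.F.co_add]
    have hLw : ∀ y, L (w4 • y) = w4 * L y := fun y => by
      show c.F.co 0 _ = w4 * c.F.co 0 _
      rw [← c.F.om_low, hg2L, c.F.co_om]
    have hz : ∀ i a, L (Pi.single i a) = 0 := fun i a => by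
      obtain ⟨e, he, hei⟩ : ∃ e : Fin 4 → ZMod 3, ∑ j, e j = 0 ∧ e i = 1 :=
        (show ∀ i : Fin 4, ∃ e : Fin 4 → ZMod 3, ∑ j, e j = 0 ∧ e i = 1 by decide +kernel) i
      have h1 : L (w4 • Pi.single i a) = L (Pi.single i a) := by
        refine Eq.trans (congrArg L ?_) (htor he (Pi.single i a))
        funext j
        rcases eq_or_ne j i with rfl | hj
        · rw [hei, Pi.single_eq_same]; simp; exact Or.inl (show w4 = wp 1 by decide +kernel)
        · simp [hj]
      rw [hLw] at h1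
      exact (show ∀ r : F4, w4 * r = r → r = 0 by decide +kernel) _ h1
    intro y
    have h0 : L y = 0 := by
      rw [← Finset.univ_sum_single y, map_sum]
      exact Finset.sum_eq_zero fun i _ => hz i _
    rw [pt4_low c.F hs2 hg20, show c.F.co 0 (c.ρ g2 (c.F.low y)) = 0 from h0, c.F.line_zero, add_zero, hP]
  -- compare with the scaling
  have hde : d ^ 2 ≠ 0 := pow_ne_zero 2 hMd
  have hres := c.F.fix_or_swap (c := fun v => c.ρ g2 (hd c.F (d ^ 2) v)) (sym_comp c.F hs2 (hd_sym c.F hde))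
    (by rw [hd_v0, hg20]) (fun y => by
      rw [hd_low, hshift]
      congr 1
      funext i
      simp only [E]
      split
      · rw [← mul_assoc, hdd, one_mul]
      · rw [one_mul, one_mul])
  have hform : (∀ v, c.ρ g2 v = hd c.F d v) ∨
      ∀ v, c.ρ g2 v = c.F.mk6 fun i => c.F.co (Equiv.swap (0 : Fin 6) 1 i) (hd c.F d v) := by
    have hinv : ∀ v, hd c.F (d ^ 2) (hd c.F d v) = v := hd_comp c.F (by rw [mul_comm, hdd])
    rcases hres with h | h
    · exact Or.inl fun v => by have := h (hd c.F d v); rwa [hinv] at this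
    · exact Or.inr fun v => by have := h (hd c.F d v); rwa [hinv] at this
  have hd1 : d = 1 := by
    by_contra hne
    obtain ⟨k', hk0', hk1', -, h378, -, hcl⟩ := c.F.two_orbits
    have he : c.F.orb c.F.v0 = c.F.orb (c.F.rep k') := by
      refine (c.F.orb_eq ?_).symm
      rw [(c.small_iff (c.F.rep_sing k').1 (c.F.rep_sing k').2).1, h378]
    obtain ⟨a, hxs, hxk, hys, hy0, hyk, hys', hy0', hyk'⟩ := class_move k' d hk0' hk1' hMd hne
    set x : Fin 6 → F4 := ![1, 1, 1, 1, 1, wp a]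
    have hmem : c.F.mk6 x ∈ c.F.orb c.F.v0 := by
      have := c.F.mem_orb_rep hxs
      rw [hxk, c.F.dec_code] at this
      rwa [he]
    have himg := c.orbit_small g2 hmem
    rcases hform with h | h <;> rw [h] at himg <;> simp only [hd, c.F.co_mk6] at himg
    · rcases c.F.mem_small k' hcl he hys himg with e | e
      exacts [hy0 e, hyk e]
    · rcases c.F.mem_small k' hcl he hys' himg with e | e
      exacts [hy0' e, hyk' e]
  have hid : ∀ v, hd c.F d v = v := fun v => c.F.co_ext fun i => by rw [hd_co, hd1]; simp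
  -- back to the element
  set n := k⁻¹ * (g * l * g⁻¹) with hn
  have hnK : n ∈ c.K := mul_mem (inv_mem hk) (c.Kn.conj_mem l hl g)
  have hg2 : g2 = n * g := by rw [hg2d, hg1d, hn]; group
  rcases hform with h | h
  · left
    have h1 : g2 ∈ J z := c.ρ_ker.mp (Equiv.ext fun v => by rw [h, hid]; rfl)
    have h2 := mul_mem (inv_mem hnK) (c.JK h1)
    rwa [hg2, inv_mul_cancel_left] at h2
  · exact Or.inr ⟨n, hnK, fun v => by rw [← hg2, h, hid]⟩

theorem HL_over_K {a b : ↥(Cn z)} (ha : a ∈ c.HL) (hb : b ∈ c.HL) (ha' : a ∉ c.K) (hb' : b ∉ c.K) :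
    a⁻¹ * b ∈ c.K := by
  haveI := c.Kn
  obtain ⟨k, hk, hka⟩ := (c.lin_cases ha).resolve_left ha'
  obtain ⟨l, hl, hlb⟩ := (c.lin_cases hb).resolve_left hb'
  have h1 : (k * a)⁻¹ * (l * b) ∈ c.K := c.JK (c.ρ_ker.mp (by
    rw [map_mul, map_inv, show c.ρ (k * a) = c.ρ (l * b) from Equiv.ext fun v => by rw [hka, hlb], inv_mul_cancel]))
  have h2 : a⁻¹ * b = (a⁻¹ * k * a) * ((k * a)⁻¹ * (l * b)) * (b⁻¹ * l⁻¹ * b) := by group
  rw [h2]
  refine mul_mem (mul_mem ?_ h1) ?_
  · simpa using c.Kn.conj_mem k hk a⁻¹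
  · simpa using c.Kn.conj_mem l⁻¹ (inv_mem hl) b⁻¹

theorem index_HL_K : (c.K.subgroupOf c.HL).index ≤ 2 := by
  by_cases h : c.K.subgroupOf c.HL = ⊤
  · rw [h, index_top]; norm_num
  obtain ⟨a, -, ha⟩ := SetLike.exists_of_lt (lt_top_iff_ne_top.mpr h)
  refine le_of_eq (index_eq_two_iff.mpr ⟨a, fun b => ?_⟩)
  rw [mem_subgroupOf] at ha
  simp only [mem_subgroupOf, Subgroup.coe_mul]
  by_cases hb : (b : ↥(Cn z)) ∈ c.K
  · exact Or.inr ⟨hb, fun h' => ha (by simpa using mul_mem (inv_mem hb) h')⟩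
  · refine Or.inl ⟨?_, hb⟩
    have := c.HL_over_K (inv_mem b.2) a.2 (fun hh => hb (by simpa using inv_mem hh)) ha
    simpa using this

theorem index_K : c.K.index ≤ 4 ∧ c.K.index ∣ 4 := by
  have h1 : c.K.relIndex c.HL ≤ 2 := c.index_HL_K
  have h2 := relIndex_mul_index c.K_le_HL
  have h3 : c.HL.index = 1 ∨ c.HL.index = 2 := c.HL_index.imp (fun h => by rw [h, index_top]) id
  have h4 : c.K.relIndex c.HL ≠ 0 := Subgroup.index_ne_zero_of_finite
  rcases h3 with h | h <;> rw [h] at h2 <;>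
    rcases (show c.K.relIndex c.HL = 1 ∨ c.K.relIndex c.HL = 2 by omega) with e | e <;> rw [e] at h2 <;>
    rw [← h2] <;> norm_num

end Ctx

end Cfsg.Lib.FiLargest
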