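import Cfsg.Agent.FiLargest.Cases
import Cfsg.Agent.USixType.CoreDone
import Cfsg.Agent.FiPrime.Main
import Cfsg.Agent.M24Rec.Outer
import Cfsg.Agent.M24Rec.Main

/-!
The characterisation of the largest Fischer groups by the centraliser of a central involution.
-/

set_option autoImplicit false
set_option maxRecDepth 100000
set_option maxHeartbeats 1000000
set_option linter.unusedSectionVars false
set_option linter.style.haveILetI false

namespace Cfsg.Lib.FiLargest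

open Subgroup
open Cfsg.Lib.LargeFischer (isExtraspecial_congr)

universe u

namespace Ctx

variable {G : Type u} [Group G] [Finite G] {z : G} (c : Ctx z)

include c in
theorem fitting_eq : Cfsg.generalizedFittingSubgroup ↥(Cn z) = J z := by
  haveI : Fact (Nat.Prime 2) := ⟨Nat.prime_two⟩
  exact Cfsg.Lib.TransvC.genFitting_eq_of_selfCentral (J z) (Cfsg.Lib.Components.isPGroup_pCore 2) c.selfc

/-- The group of index two. -/
theorem four_case (hG : (Res G).index = 2) (h2 : c.K.relIndex (ResC z) = 2)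
    (hfus : ∃ g ∈ Res G, ∃ x : ↥(J z), g * z * g⁻¹ = ((x : ↥(Cn z)) : G) ∧ ((x : ↥(Cn z)) : G) ≠ z) :
    Nonempty (G ≃* Cfsg.Spor.Fi24) := by
  classical
  haveI : Fact (Nat.Prime 2) := ⟨Nat.prime_two⟩
  haveI := c.Kn
  haveI := c.Mn
  let z1 : ↥(Res G) := ⟨z, c.J_le_res c.X2g.mem⟩
  set C1 := centralizer ({z1} : Set ↥(Res G)) with hC1
  have hmem : ∀ {a : ↥(Res G)}, a ∈ C1 ↔ (a : G) ∈ Cn z := fun {a} => by
    rw [mem_centralizer_singleton_iff, mem_centralizer_singleton_iff]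
    exact Subtype.ext_iff
  let φ : ↥C1 →* ↥(Cn z) :=
    MonoidHom.mk' (fun a => ⟨((a : ↥(Res G)) : G), hmem.mp a.2⟩) fun _ _ => rfl
  have hφ : Function.Injective φ := fun a b h =>
    Subtype.ext (Subtype.ext (congrArg (fun w : ↥(Cn z) => (w : G)) h))
  have hrange : φ.range = ResC z := by
    ext y
    constructor
    · rintro ⟨a, rfl⟩; exact (a : ↥(Res G)).2
    · intro hy; exact ⟨⟨⟨y, hy⟩, hmem.mpr y.2⟩, rfl⟩
  have hpull : ∀ {A : Subgroup ↥(Cn z)}, A ≤ c.K → (A.comap φ).map φ = A := fun {A} hA =>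
    map_comap_eq_self (by rw [hrange]; exact hA.trans c.K_le_res)
  let eA : ∀ A : Subgroup ↥(Cn z), A ≤ c.K → ↥(A.comap φ) ≃* ↥A := fun A hA =>
    ((A.comap φ).equivMapOfInjective φ hφ).trans (MulEquiv.subgroupCongr (hpull hA))
  set Q1 := (J z).comap φ with hQ1
  have hQE : Cfsg.IsExtraspecial 2 ↥Q1 := isExtraspecial_congr (eA _ c.JK).symm c.hE
  have hQc : centralizer (Q1 : Set ↥C1) ≤ Q1 := fun w hw => c.selfc (mem_centralizer_iff.mpr fun j hj => by
    obtain ⟨q, hq, rfl⟩ : j ∈ Q1.map φ := (hpull c.JK).ge hj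
    rw [← map_mul, ← map_mul, mem_centralizer_iff.mp hw q hq])
  have hF1 : Cfsg.generalizedFittingSubgroup ↥C1 = Q1 := by
    rw [Cfsg.Lib.TransvC.genFitting_eq_of_selfCentral Q1 hQE.1.1 hQc]
    refine le_antisymm (fun w hw => ?_) (Cfsg.Lib.Components.le_pCore hQE.1.1)
    -- the two-core centralises nothing new
    let P := (Cfsg.pCore 2 ↥C1).map φ
    haveI : ((ResC z)).Normal := inferInstance
    have hPn : P.Normal := ⟨by
      rintro _ ⟨a, ha, rfl⟩ n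
      let eC : ↥C1 ≃* ↥(ResC z) := (MonoidHom.ofInjective hφ).trans (MulEquiv.subgroupCongr hrange)
      let ψ : MulAut ↥C1 := (eC.trans (MulAut.conjNormal (H := ResC z) n)).trans eC.symm
      refine ⟨ψ a, ?_, ?_⟩
      · haveI : (Cfsg.pCore 2 ↥C1).Characteristic := Cfsg.Lib.Components.pCore_characteristic
        exact (characteristic_iff_le_comap.mp inferInstance ψ) ha
      · have h : ((eC (ψ a) : ↥(ResC z)) : ↥(Cn z)) = n * (eC a : ↥(ResC z)) * n⁻¹ := by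
          simp only [ψ, MulEquiv.trans_apply, MulEquiv.apply_symm_apply, MulAut.conjNormal_apply]
        exact h⟩
    have h1 : P ≤ J z := Cfsg.Lib.Components.le_pCore ((Cfsg.Lib.Components.isPGroup_pCore 2).map φ)
    exact h1 ⟨w, hw, rfl⟩
  have hcardQ : Nat.card ↥Q1 = 2 ^ 13 := by rw [Nat.card_congr (eA _ c.JK).toEquiv, c.card]
  have hM1 : Nat.card ↥(c.M.comap φ) = 3 * Nat.card ↥Q1 := by
    rw [Nat.card_congr (eA _ c.MK).toEquiv, c.M3, hcardQ, c.card]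
  obtain ⟨e⟩ := c.iso
  let eK := eA c.K le_rfl
  haveI : ((c.M.comap φ).subgroupOf (c.K.comap φ)).Normal := inferInstance
  have hmap : ((c.M.comap φ).subgroupOf (c.K.comap φ)).map eK.toMonoidHom = c.M.subgroupOf c.K := by
    ext k
    rw [mem_subgroupOf]
    constructor
    · rintro ⟨a, ha, rfl⟩; exact ha
    · intro hk
      refine ⟨eK.symm k, ?_, eK.apply_symm_apply k⟩
      have h : φ ((eK.symm k : ↥(c.K.comap φ)) : ↥C1) = (k : ↥(Cn z)) :=
        congrArg Subtype.val (eK.apply_symm_apply k)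
      exact (congrArg (fun w => w ∈ c.M) h).mpr hk
  let e1 := (QuotientGroup.congr _ _ eK hmap).trans e
  have hidx : (c.K.comap φ).index = 2 := by rw [index_comap, hrange, h2]
  have hJ1 : ∀ {w : ↥(Res G)}, (w : G) ∈ Jg z → ∃ hq : w ∈ C1, (⟨w, hq⟩ : ↥C1) ∈ Q1 := fun {w} hw => by
    obtain ⟨j, hj, hje⟩ := hw
    refine ⟨hmem.mpr (hje ▸ j.2), ?_⟩
    show φ _ ∈ J z
    rwa [show φ ⟨w, _⟩ = j from Subtype.ext hje.symm]
  obtain ⟨g, hg, x, hgx, hxz⟩ := hfus
  have hT : Cfsg.IsOfLargeFischerTypeAt z1 Q1 := by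
    refine ⟨⟨?_, hF1, hQE, hcardQ, ⟨g, hg⟩, hJ1 ?_, fun h => hxz ?_⟩, c.M.comap φ, c.K.comap φ, inferInstance,
      inferInstance, comap_mono c.JM, comap_mono c.MK, hM1,
      ⟨Cfsg.Lib.UFourThreeCover.K, inferInstance, inferInstance, Cfsg.Lib.UFourThreeCover.card_K, ⟨e1⟩⟩, hidx⟩
    · rw [← orderOf_injective (Res G).subtype (Res G).subtype_injective z1]; exact c.hz
    · exact ⟨x, x.2, hgx.symm⟩
    · exact hgx.symm.trans (congrArg (fun w : ↥(Res G) => (w : G)) h)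
  obtain ⟨P, hzP, hPz, -⟩ := c.exists_sylow
  obtain ⟨d, θ₀, hset⟩ := Cfsg.Lib.LargeFischer.outer_setting Cfsg.Lib.USixType.coreGoal hG hT ⟨P, hzP, hPz⟩ (by
    show (Cfsg.generalizedFittingSubgroup ↥(Cn z)).map (Cn z).subtype = _
    rw [c.fitting_eq]
    ext y
    constructor
    · intro hy
      obtain ⟨hq, hq'⟩ := hJ1 (w := ⟨y, c.J_le_res hy⟩) hy
      exact ⟨⟨y, c.J_le_res hy⟩, ⟨⟨_, hq⟩, hq', rfl⟩, rfl⟩
    · rintro ⟨_, ⟨q, hq, rfl⟩, rfl⟩
      exact ⟨φ q, hq, rfl⟩)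
  obtain ⟨F, hF, hFk⟩ := hset.exists_model
  exact ⟨(MulEquiv.ofBijective F ⟨hF, hset.surjective hF hFk⟩).symm⟩

theorem main :
    Cn z ⊔ Cfsg.oddCore G = ⊤ ∨ (c.K.index = 2 ∧ Cfsg.Spor.IsoFi24' G) ∨
      (c.K.index = 4 ∧ (∀ (_ : c.K.Normal), ∀ x : ↥(Cn z) ⧸ c.K, x ^ 2 = 1) ∧ Nonempty (G ≃* Cfsg.Spor.Fi24)) := by
  classical
  haveI := c.Kn
  haveI := c.Mn
  by_cases hne : ResC z ≤ c.K
  · exact Or.inl (c.isolated_case hne)
  obtain ⟨h2, hfus⟩ := c.res_fusion hne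
  have hmul := relIndex_mul_index c.K_le_res
  change c.K.relIndex (ResC z) * (ResC z).index = _ at hmul
  rw [h2] at hmul
  have h4 := c.index_K.1
  have h0 : (ResC z).index ≠ 0 := index_ne_zero_of_finite
  rcases (show (ResC z).index = 1 ∨ (ResC z).index = 2 by omega) with e | e <;> rw [e] at hmul
  · refine Or.inr (Or.inl ⟨by omega, ?_⟩)
    obtain ⟨g, -, x, hgx, hxz⟩ := hfus
    obtain ⟨ei⟩ := c.iso
    refine Cfsg.Lib.FiPrime.iso_fi24' Cfsg.Lib.USixType.coreGoal z c.hz (J z) c.M c.K c.fitting_eq c.hE c.card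
      c.JM c.MK c.M3 Cfsg.Lib.UFourThreeCover.K Cfsg.Lib.UFourThreeCover.card_K ei (by omega)
      ⟨g, ⟨hgx ▸ (x : ↥(Cn z)).2, ?_⟩, fun h => hxz (hgx.symm.trans h)⟩
    convert x.2 using 1
    exact Subtype.ext hgx
  · refine Or.inr (Or.inr ⟨by omega, fun _ q => ?_, c.four_case (by rw [c.res_index, e]) h2 hfus⟩)
    obtain ⟨g, hg, x, hgx, hxz⟩ := hfus
    obtain ⟨r, hr, hrK⟩ := c.exists_outside_K hgx hxz
    have hrL := c.semi_out hgx hxz hr hrK
    have hHL : c.HL.index = 2 := c.HL_index.resolve_left fun e' => hrL (e' ▸ mem_top r)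
    obtain ⟨y, rfl⟩ := QuotientGroup.mk'_surjective c.K q
    rw [← map_pow, QuotientGroup.mk'_apply, QuotientGroup.eq_one_iff]
    have hy1 : y ^ 2 ∈ ResC z := sq_mem_of_index_two e y
    have hy2 : y ^ 2 ∈ c.HL := sq_mem_of_index_two hHL y
    by_contra hyK
    have h2' : (c.K.subgroupOf (ResC z)).index = 2 := h2
    have hr1 : r ∈ ResC z := c.RC_le_res g hr
    have hprod : r⁻¹ * y ^ 2 ∈ c.K := by
      have := (mul_mem_iff_of_index_two h2' (a := ⟨r⁻¹, inv_mem hr1⟩) (b := ⟨y ^ 2, hy1⟩)).mpr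
        (iff_of_false (fun h => hrK (inv_mem_iff.mp h)) hyK)
      exact this
    exact hrL (inv_mem_iff.mp (by simpa using mul_mem (c.K_le_HL hprod) (inv_mem hy2)))

end Ctx

end Cfsg.Lib.FiLargest
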