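import Cfsg.Agent.FiLargest.Setting

/-!
Semilinearity of the centraliser on the module, invariance of the short orbit, and ranks in the image of `K`.
-/

set_option autoImplicit false
set_option maxRecDepth 100000
set_option maxHeartbeats 1000000
set_option linter.unusedSectionVars false
set_option linter.style.haveILetI false

namespace Cfsg.Lib.FiLargest

open Subgroup Matrix
open Cfsg.Lib.LargeExtra.OutExtra
open Cfsg.Lib.LargeFischer (rep FSetting F4 w4 wp C5 pw3)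
open scoped commutatorElement

universe u

theorem simple_U : IsSimpleGroup U :=
  (Cfsg.Lib.LargeFischer.exists_radical Cfsg.Lib.UFourThreeCover.card_K).2.1

theorem center_U : Subgroup.center U = ⊥ := by
  haveI := simple_U
  rcases IsSimpleGroup.eq_bot_or_eq_top_of_normal (Subgroup.center U) inferInstance with h | h
  · exact h
  · obtain ⟨P, -, a, -, b, -, c, -, hab, -⟩ := exists_two_comm
    exact absurd (commutatorElement_eq_one_iff_mul_comm.mpr (mem_center_iff.mp (h ▸ mem_top b) a)) hab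

theorem w4_sq : w4 * w4 = 1 + w4 := by decide +kernel

namespace Ctx

variable {G : Type u} [Group G] [Finite G] {z : G} (c : Ctx z)

theorem om_eq (v : c.ι → ZMod 2) : c.F.om v = c.F.ρ (c.F.E.α (Pi.single 0 1)) v := rfl

theorem om_om (v : c.ι → ZMod 2) : c.F.om (c.F.om v) = c.F.om v + v := c.F.co_ext fun i => by
  rw [c.F.co_add, c.F.co_om, c.F.co_om, ← mul_assoc, w4_sq, add_mul, one_mul, add_comm]

theorem om_three (v : c.ι → ZMod 2) : c.F.om (c.F.om (c.F.om v)) = v := by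
  rw [c.om_om, c.om_om, add_comm _ v, add_assoc, c.F.dbl, add_zero]

theorem om_inj : Function.Injective c.F.om := c.F.t_inj _

theorem om_fix {v : c.ι → ZMod 2} (h : c.F.om v = v) : v = 0 := c.F.central_fpf h

theorem om_ρ {k : ↥(Cn z)} (hk : k ∈ c.K) (v : c.ι → ZMod 2) : c.ρ k (c.F.om v) = c.F.om (c.ρ k v) := by
  rw [← c.toX_apply k hk, ← c.toX_apply k hk, c.F.om_comm]

/-- Commuting with the cube root. -/
def Lin (g : ↥(Cn z)) : Prop := ∀ v, c.ρ g (c.F.om v) = c.F.om (c.ρ g v)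

/-- Inverting the cube root. -/
def Semi (g : ↥(Cn z)) : Prop := ∀ v, c.ρ g (c.F.om v) = c.F.om (c.F.om (c.ρ g v))

theorem lin_or (g : ↥(Cn z)) : c.Lin g ∨ c.Semi g := by
  haveI := c.Kn
  obtain ⟨k, hk, hke, hρk⟩ := c.exists_lift (c.F.E.α (Pi.single 0 1))
  have hgk : g * k * g⁻¹ ∈ c.K := c.Kn.conj_mem k hk g
  set y := c.toX (g * k * g⁻¹) hgk with hy
  have hom : ∀ v, c.ρ k v = c.F.om v := fun v => by rw [c.om_eq, ← hρk]
  have hyc : y ∈ Subgroup.center _ := mem_center_iff.mpr fun x => c.F.ρ_inj (Equiv.ext fun v => by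
    obtain ⟨l, hl, rfl, -⟩ := c.exists_lift x
    have hl' : g⁻¹ * l * g ∈ c.K := by simpa using c.Kn.conj_mem l hl g⁻¹
    have e : c.ρ l * c.ρ (g * k * g⁻¹) = c.ρ (g * k * g⁻¹) * c.ρ l := by
      have e0 : c.ρ (g⁻¹ * l * g) * c.ρ k = c.ρ k * c.ρ (g⁻¹ * l * g) := Equiv.ext fun w => by
        rw [Equiv.Perm.mul_apply, Equiv.Perm.mul_apply, hom, hom, c.om_ρ hl']
      have h1 : l = g * (g⁻¹ * l * g) * g⁻¹ := by group
      calc c.ρ l * c.ρ (g * k * g⁻¹) = c.ρ g * (c.ρ (g⁻¹ * l * g) * c.ρ k) * c.ρ g⁻¹ := by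
            simp only [← map_mul]; congr 1; group
        _ = c.ρ g * (c.ρ k * c.ρ (g⁻¹ * l * g)) * c.ρ g⁻¹ := by rw [e0]
        _ = _ := by simp only [← map_mul]; congr 1; group
    rw [map_mul, map_mul, Equiv.Perm.mul_apply, Equiv.Perm.mul_apply]
    simp only [hy, c.toX_apply]
    exact Equiv.ext_iff.mp e v)
  have hψ : c.F.E.ψ y = 1 := by
    have h1 : c.F.E.ψ y ∈ Subgroup.center U := mem_center_iff.mpr fun u => by
      obtain ⟨x, rfl⟩ := c.F.E.surj u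
      rw [← map_mul, ← map_mul, mem_center_iff.mp hyc x]
    rwa [center_U, mem_bot] at h1
  obtain ⟨j, hj⟩ := c.F.E.ω_onto hψ
  have hgen : ∀ v, c.ρ g (c.F.om v) = c.F.ρ y (c.ρ g v) := fun v => by
    rw [hy, c.toX_apply, map_mul, map_mul, map_inv, Equiv.Perm.mul_apply, Equiv.Perm.mul_apply,
      Equiv.Perm.coe_inv, Equiv.symm_apply_apply, hom]
  rcases (show ∀ r : ZMod 3, r = 0 ∨ r = 1 ∨ r = 1 + 1 by decide) j with rfl | rfl | rfl
  · exfalso
    have hv0 : c.F.v0 = 0 := by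
      refine c.om_fix ((c.ρ g).injective ?_)
      rw [hgen, hj, Cfsg.Lib.LargeFischer.pw3_zero, map_one, Equiv.Perm.one_apply]
    have := congrArg (c.F.co 0) hv0
    rw [c.F.co_v0, c.F.co_zero] at this
    exact one_ne_zero this
  · refine Or.inl fun v => ?_
    rw [hgen, hj, c.om_eq, c.F.E.α_e]
  · refine Or.inr fun v => ?_
    rw [hgen, hj, c.om_eq, c.om_eq, c.F.E.α_e, Cfsg.Lib.LargeFischer.pw3_add c.F.E.ω_three, map_mul,
      Equiv.Perm.mul_apply]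

/-- The linear part of the centraliser. -/
noncomputable def HL : Subgroup ↥(Cn z) where
  carrier := {g | c.Lin g}
  one_mem' := fun v => by rw [map_one]; rfl
  mul_mem' := fun {a b} ha hb v => by
    rw [map_mul, Equiv.Perm.mul_apply, Equiv.Perm.mul_apply, hb, ha]
  inv_mem' := fun {a} ha v => by
    refine (c.ρ a).injective ?_
    rw [ha, map_inv, Equiv.Perm.coe_inv, Equiv.apply_symm_apply, Equiv.apply_symm_apply]

theorem mem_HL {g : ↥(Cn z)} : g ∈ c.HL ↔ c.Lin g := Iff.rfl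

theorem K_le_HL : c.K ≤ c.HL := fun _ hk => c.om_ρ hk

theorem HL_index : c.HL = ⊤ ∨ c.HL.index = 2 := by
  by_cases h : c.HL = ⊤
  · exact Or.inl h
  obtain ⟨a, -, ha⟩ := SetLike.exists_of_lt (lt_top_iff_ne_top.mpr h)
  refine Or.inr (index_eq_two_iff.mpr ⟨a, fun b => ?_⟩)
  have hs := (c.lin_or a).resolve_left ha
  by_cases hb : b ∈ c.HL
  · exact Or.inr ⟨hb, fun h' => ha (by simpa using mul_mem (inv_mem hb) h')⟩
  · refine Or.inl ⟨fun v => ?_, hb⟩
    rw [map_mul, Equiv.Perm.mul_apply, Equiv.Perm.mul_apply, hs]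
    have hsb := (c.lin_or b).resolve_left hb
    rw [hsb, hsb, c.om_three]

theorem semi_of_not {g : ↥(Cn z)} (h : g ∉ c.HL) : c.Semi g := (c.lin_or g).resolve_left h

theorem orb_map (g : ↥(Cn z)) (v w : c.ι → ZMod 2) : c.ρ g w ∈ c.F.orb (c.ρ g v) ↔ w ∈ c.F.orb v := by
  haveI := c.Kn
  constructor
  · rintro ⟨x, hx⟩
    obtain ⟨k, hk, -, hxe⟩ := c.exists_lift x
    refine ⟨c.toX (g⁻¹ * k * g) (by simpa using c.Kn.conj_mem k hk g⁻¹), ?_⟩
    rw [c.toX_apply]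
    refine (c.ρ g).injective ?_
    rw [← hx, hxe, ← Equiv.Perm.mul_apply, ← map_mul, ← Equiv.Perm.mul_apply, ← map_mul]
    congr 2; group
  · rintro ⟨x, rfl⟩
    obtain ⟨k, hk, -, hxe⟩ := c.exists_lift x
    refine ⟨c.toX (g * k * g⁻¹) (c.Kn.conj_mem k hk g), ?_⟩
    rw [c.toX_apply, hxe, ← Equiv.Perm.mul_apply, ← map_mul, ← Equiv.Perm.mul_apply, ← map_mul]
    congr 2; group

theorem card_orb_map (g : ↥(Cn z)) (v : c.ι → ZMod 2) :
    Nat.card (c.F.orb (c.ρ g v)) = Nat.card (c.F.orb v) :=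
  (Nat.card_congr ((c.ρ g).subtypeEquiv (p := fun w => w ∈ c.F.orb v) (q := fun w => w ∈ c.F.orb (c.ρ g v))
    fun w => (c.orb_map g v w).symm)).symm

theorem v0_sing : c.F.q c.F.v0 = 0 ∧ c.F.v0 ≠ 0 := by
  obtain ⟨k, he, -, -⟩ := c.F.v0_small
  exact c.F.orb_sing (c.F.rep_sing k) (he ▸ c.F.orb_self _)

/-- The two orbits. -/
theorem small_iff {v : c.ι → ZMod 2} (hv : c.F.q v = 0) (hv0 : v ≠ 0) :
    (v ∈ c.F.orb c.F.v0 ↔ Nat.card (c.F.orb v) = 378) ∧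
      (v ∉ c.F.orb c.F.v0 → Nat.card (c.F.orb v) = 1701 ∧
        ∀ w, c.F.q w = 0 → w ≠ 0 → w ∉ c.F.orb c.F.v0 → w ∈ c.F.orb v) := by
  obtain ⟨a, b, ha, hb, hab, h378, h1701, hall, -, -⟩ := c.F.two_points
  obtain ⟨hq0, hne0⟩ := c.v0_sing
  have h0 : c.F.orb c.F.v0 = c.F.orb a := by
    rcases hall _ hq0 hne0 with h | h
    · exact c.F.orb_eq h
    · have h1 := c.F.v0_card
      rw [c.F.orb_eq h, h1701] at h1
      omega
  have hb' : ∀ w, c.F.q w = 0 → w ≠ 0 → w ∉ c.F.orb c.F.v0 → c.F.orb w = c.F.orb b := fun w hw hw0 hn =>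
    c.F.orb_eq ((hall w hw hw0).resolve_left (h0 ▸ hn))
  refine ⟨⟨fun h => by rw [c.F.orb_eq h, c.F.v0_card], fun h => ?_⟩, fun hn => ⟨by rw [hb' v hv hv0 hn, h1701],
    fun w hw hw0 hwn => by rw [hb' v hv hv0 hn, ← hb' w hw hw0 hwn]; exact c.F.orb_self w⟩⟩
  by_contra hn
  rw [hb' v hv hv0 hn, h1701] at h
  omega

theorem orbit_small (g : ↥(Cn z)) {v : c.ι → ZMod 2} (hv : v ∈ c.F.orb c.F.v0) :
    c.ρ g v ∈ c.F.orb c.F.v0 := by
  obtain ⟨hq, hne⟩ := c.F.orb_sing c.v0_sing hv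
  have h0 : c.ρ g v ≠ 0 := fun e => hne ((c.ρ g).injective (e.trans (by
    have h := c.ρ_add g 0 0
    rw [add_zero, c.F.dbl] at h
    exact h.symm)))
  rw [(c.small_iff (by rw [c.ρ_q, hq]) h0).1, c.card_orb_map, c.F.orb_eq hv, c.F.v0_card]

/-- Two-subgroups of the image of `K` inject into the unitary group. -/
theorem image_small {S : Subgroup ↥((rep (J z) c.D).comp c.K.subtype).range} (hS : IsPGroup 2 S) :
    Nat.card (S.map c.F.E.ψ) = Nat.card S := by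
  haveI : Fact (Nat.Prime 2) := ⟨Nat.prime_two⟩
  refine (Nat.card_congr (Equiv.ofBijective (fun x : S => (⟨c.F.E.ψ x.1, mem_map_of_mem _ x.2⟩ : S.map c.F.E.ψ))
    ⟨fun x y e => ?_, fun ⟨_, x, hx, rfl⟩ => ⟨⟨x, hx⟩, rfl⟩⟩)).symm
  have h1 : c.F.E.ψ (x.1 * y.1⁻¹) = 1 := by
    rw [map_mul, map_inv, show c.F.E.ψ x.1 = c.F.E.ψ y.1 from congrArg Subtype.val e, mul_inv_cancel]
  haveI : Finite (c.F.E.ψ.ker) := Nat.finite_of_card_ne_zero (by rw [c.F.E.card]; norm_num)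
  obtain ⟨n, hn⟩ := hS (x * y⁻¹)
  have h2 : orderOf (x.1 * y.1⁻¹) ∣ 2 ^ n := orderOf_dvd_of_pow_eq_one (congrArg Subtype.val hn)
  have h3 : orderOf (x.1 * y.1⁻¹) ∣ 3 := by
    rw [← c.F.E.card, ← orderOf_mk (x.1 * y.1⁻¹) (MonoidHom.mem_ker.mpr h1)]
    exact orderOf_dvd_natCard _
  have h4 : orderOf (x.1 * y.1⁻¹) = 1 :=
    Nat.eq_one_of_dvd_coprimes (Nat.Coprime.pow_left n (by norm_num : Nat.Coprime 2 3)) h2 h3
  exact Subtype.ext (mul_inv_eq_one.mp (orderOf_eq_one_iff.mp h4))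

theorem elem_X {S : Subgroup ↥((rep (J z) c.D).comp c.K.subtype).range} (hS : ∀ x ∈ S, x * x = 1) :
    Nat.card S ≤ 16 := by
  have hp : IsPGroup 2 S := fun x => ⟨1, Subtype.ext (by rw [pow_one, pow_two]; exact hS x x.2)⟩
  rw [← c.image_small hp]
  refine elementary_le _ ?_
  rintro _ ⟨x, hx, rfl⟩
  rw [← map_mul, hS x hx, map_one]

theorem derived_X {S : Subgroup ↥((rep (J z) c.D).comp c.K.subtype).range} (hp : IsPGroup 2 S)
    (t : ↥((rep (J z) c.D).comp c.K.subtype).range) (h : ∀ a ∈ S, ∀ b ∈ S, ⁅a, b⁆ = 1 ∨ ⁅a, b⁆ = t) :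
    Nat.card S ≤ 64 := by
  rw [← c.image_small hp]
  refine small_derived _ (hp.map _) (c.F.E.ψ t) ?_
  rintro _ ⟨a, ha, rfl⟩ _ ⟨b, hb, rfl⟩
  rw [← map_commutatorElement]
  rcases h a ha b hb with e | e <;> rw [e] <;> simp

/-- An elementary abelian two-group in `K` modulo the two-core. -/
theorem elem_K (A : Subgroup ↥(Cn z)) (hA : A ≤ c.K) (hsq : ∀ a ∈ A, a * a ∈ J z) :
    Nat.card (A.map c.ρ) ≤ 16 := by
  let f : A →* ↥((rep (J z) c.D).comp c.K.subtype).range :=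
    MonoidHom.mk' (fun a => c.toX a.1 (hA a.2)) fun a b => Subtype.ext (map_mul c.ρ a.1 b.1)
  have h := c.elem_X (S := f.range) (by
    rintro _ ⟨a, rfl⟩
    refine Subtype.ext ?_
    show c.ρ a.1 * c.ρ a.1 = 1
    rw [← map_mul, c.ρ_ker.mpr (hsq a a.2)])
  refine le_trans (le_of_eq ?_) h
  have e : f.range.map ((rep (J z) c.D).comp c.K.subtype).range.subtype = A.map c.ρ := by
    ext y
    constructor
    · rintro ⟨_, ⟨a, rfl⟩, rfl⟩
      exact ⟨a, a.2, rfl⟩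
    · rintro ⟨a, ha, rfl⟩
      exact ⟨_, ⟨⟨a, ha⟩, rfl⟩, rfl⟩
  rw [← e, card_map_of_injective (Subgroup.subtype_injective _)]

end Ctx

end Cfsg.Lib.FiLargest
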