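import Cfsg.Agent.UFourThreeCover.Field
import Cfsg.Agent.Known.Balance.SUFacts
import Mathlib.LinearAlgebra.Matrix.Charpoly.Coeff

/-!
Two-subgroups of the projective special unitary group in dimension four over nine elements: elementary abelian ones
have order at most sixteen, and those with at most one non-trivial commutator have order at most sixty-four.
-/

set_option autoImplicit false
set_option maxRecDepth 100000
set_option maxHeartbeats 1000000
set_option linter.unusedSectionVars false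
set_option linter.style.haveILetI false

namespace Cfsg.Lib.FiLargest

open Subgroup Matrix
open scoped commutatorElement
open Cfsg.Lib.UFourThreeCover (K card_K card_psu cube herm_preserved hermForm_eq)

abbrev U : Type := Cfsg.PSU 4 K 3

/-- The matrix. -/
def mat (g : Cfsg.SU 4 K 3) : Matrix (Fin 4) (Fin 4) K := g.1.1

theorem mat_mul (g h : Cfsg.SU 4 K 3) : mat (g * h) = mat g * mat h := rfl

theorem mat_one : mat 1 = 1 := rfl

theorem mat_inj : Function.Injective mat := fun _ _ h => Subtype.ext (Subtype.ext h)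

theorem mat_det (g : Cfsg.SU 4 K 3) : (mat g).det = 1 := g.1.2

/-- The projection. -/
def pr : Cfsg.SU 4 K 3 →* U := QuotientGroup.mk' _

theorem pr_surj : Function.Surjective pr := QuotientGroup.mk'_surjective _

theorem central_iff (g : Cfsg.SU 4 K 3) : pr g = 1 ↔ ∃ c : K, mat g = c • 1 :=
  (QuotientGroup.eq_one_iff g).trans (Cfsg.Lib.Balance.su_center_iff (card_K.trans (by norm_num)) (by norm_num) g)

theorem pr_comm {g h : Cfsg.SU 4 K 3} (h1 : pr h = 1) : Commute g h := by
  have := (QuotientGroup.eq_one_iff h).mp h1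
  exact mem_center_iff.mp this g

theorem unit_eq (g : Cfsg.SU 4 K 3) : (mat g)ᵀ * (mat g).map cube = 1 := by
  refine Matrix.ext fun i j => ?_
  have h := g.2 (Pi.single i 1) (Pi.single j 1)
  rw [hermForm_eq, hermForm_eq, show Cfsg.slToMat 4 K g.1 = mat g from rfl, mulVec_single_one, mulVec_single_one] at h
  simp only [single_dotProduct, one_mul] at h
  rw [mul_apply, one_apply]
  refine h.trans ?_
  rcases eq_or_ne i j with rfl | hij
  · simp
  · simp [hij]

/-- The sign of a Boolean. -/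
def sg (b : Bool) : K := if b then -1 else 1

theorem sg_cases : ∀ x : K, x * x = 1 → x = sg false ∨ x = sg true := by decide +kernel

theorem exists_diag {n : ℕ} (h : Fin n → Matrix (Fin 4) (Fin 4) K) (hsq : ∀ i, h i * h i = 1)
    (hcomm : ∀ i j, h i * h j = h j * h i) :
    ∃ (M : Matrix (Fin 4) (Fin 4) K) (s : Fin n → Fin 4 → Bool), M.det ≠ 0 ∧
      ∀ i, h i * M = M * diagonal fun j => sg (s i j) := by
  classical
  let S : Finset (Fin n) → Set (Fin 4 → K) := fun T => {v | ∀ i ∈ T, h i *ᵥ v = v ∨ h i *ᵥ v = -v}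
  have hspan : ∀ T, ⊤ ≤ Submodule.span K (S T) := by
    intro T
    induction T using Finset.induction_on with
    | empty => exact fun v _ => Submodule.subset_span fun i hi => absurd hi (Finset.notMem_empty i)
    | insert i T hi ih =>
      refine ih.trans (Submodule.span_le.mpr fun v hv => ?_)
      have hh : h i *ᵥ (h i *ᵥ v) = v := by rw [mulVec_mulVec, hsq, one_mulVec]
      have key : ∀ ε : Bool, v + sg ε • (h i *ᵥ v) ∈ S (insert i T) := by
        intro ε j hj
        rcases Finset.mem_insert.mp hj with rfl | hjT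
        · rw [mulVec_add, mulVec_smul, hh]
          cases ε
          · left; simp [sg, add_comm]
          · right; simp [sg, add_comm]
        · rw [mulVec_add, mulVec_smul, mulVec_mulVec, hcomm, ← mulVec_mulVec]
          rcases hv j hjT with e | e <;> rw [e]
          · exact Or.inl rfl
          · right; rw [mulVec_neg]; simp; abel
      have h2 : v = (2 : K) • (v + sg false • (h i *ᵥ v)) + (2 : K) • (v + sg true • (h i *ᵥ v)) := by
        have h4 : (2 : K) + 2 = 1 := by decide +kernel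
        simp only [sg, Bool.false_eq_true, if_false, if_true, one_smul, neg_smul]
        rw [← smul_add, show v + h i *ᵥ v + (v + -(h i *ᵥ v)) = (2 : K) • v by rw [two_smul]; abel, smul_smul,
          show (2 : K) * 2 = 1 by decide +kernel, one_smul]
      rw [SetLike.mem_coe, h2]
      exact add_mem (Submodule.smul_mem _ _ (Submodule.subset_span (key false)))
        (Submodule.smul_mem _ _ (Submodule.subset_span (key true)))
  obtain ⟨b, hbS, hbspan, hbind⟩ := exists_linearIndependent K (S Finset.univ)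
  let B := Module.Basis.mk hbind (by rw [Subtype.range_coe, hbspan]; exact hspan _)
  haveI : Fintype b := Module.Basis.fintypeIndexOfRankLtAleph0 B (Module.rank_lt_aleph0 K _) |> fun f => f
  have hc : Fintype.card b = Fintype.card (Fin 4) := by
    rw [← Module.finrank_eq_card_basis B, Module.finrank_fin_fun, Fintype.card_fin]
  let e := Fintype.equivOfCardEq hc
  let B' := B.reindex e
  have hB' : ∀ j, B' j = (e.symm j : Fin 4 → K) := fun j => by simp [B', B]
  choose s hs using fun (i : Fin n) (j : Fin 4) => (show ∃ t : Bool, h i *ᵥ B' j = sg t • B' j by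
    rcases hbS (e.symm j).2 i (Finset.mem_univ i) with h1 | h1
    · exact ⟨false, by rw [hB', h1]; simp [sg]⟩
    · exact ⟨true, by rw [hB', h1]; simp [sg]⟩)
  refine ⟨Matrix.of fun r j => B' j r, s, ?_, fun i => ?_⟩
  · have hu := Module.Basis.invertibleToMatrix (Pi.basisFun K (Fin 4)) B'
    have e1 : (Pi.basisFun K (Fin 4)).toMatrix B' = Matrix.of fun r j => B' j r := by
      refine Matrix.ext fun r j => ?_
      simp [Module.Basis.toMatrix_apply]
    rw [← e1]
    exact IsUnit.ne_zero (Matrix.isUnit_det_of_invertible _)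
  · refine Matrix.ext fun r j => ?_
    rw [Matrix.mul_diagonal]
    have := congrFun (hs i j) r
    simp only [mulVec, dotProduct, Pi.smul_apply, smul_eq_mul] at this
    rw [mul_apply]
    simp only [Matrix.of_apply]
    rw [this, mul_comm]

theorem root_cases : ∀ c : K, c ^ 4 = 1 → c = 1 ∨ c = -1 ∨ ∃ r : K, r * r = c ∧ r ^ 4 = -1 := by decide +kernel

theorem root_trace : ∀ (r : K) (a b c d : Bool), r ^ 4 = -1 → sg a * sg b * sg c * sg d = -1 →
    r * r * cube (r * (sg a + sg b + sg c + sg d)) ≠ r * (sg a + sg b + sg c + sg d) := by decide +kernel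

theorem no_root (g : Cfsg.SU 4 K 3) {r : K} (hr : r ^ 4 = -1) (hg : mat g * mat g = (r * r) • 1) : False := by
  have hr0 : r ≠ 0 := fun e => by subst e; revert hr; decide +kernel
  let h : Fin 1 → Matrix (Fin 4) (Fin 4) K := fun _ => r⁻¹ • mat g
  obtain ⟨M, s, hM, hs⟩ := exists_diag h (fun _ => by
    simp only [h]
    rw [smul_mul_smul_comm, hg, smul_smul, show r⁻¹ * r⁻¹ * (r * r) = 1 by field_simp, one_smul]) fun _ _ => rfl
  have hgM : mat g * M = M * diagonal fun j => r * sg (s 0 j) := by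
    have e := congrArg (fun A => r • A) (hs 0)
    simp only [h, smul_mul_assoc, smul_smul, mul_inv_cancel₀ hr0, one_smul] at e
    rw [e, ← Matrix.mul_smul, ← diagonal_smul]
    rfl
  have hdet := congrArg Matrix.det hgM
  rw [det_mul, det_mul, mat_det, one_mul, det_diagonal, Fin.prod_univ_four] at hdet
  have hprod : sg (s 0 0) * sg (s 0 1) * sg (s 0 2) * sg (s 0 3) = -1 := by
    have h1 : r ^ 4 * (sg (s 0 0) * sg (s 0 1) * sg (s 0 2) * sg (s 0 3)) = 1 :=
      mul_left_cancel₀ hM (by linear_combination -hdet)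
    rw [hr] at h1
    linear_combination -h1
  have htr : (mat g).trace = r * (sg (s 0 0) + sg (s 0 1) + sg (s 0 2) + sg (s 0 3)) := by
    have hu : IsUnit M.det := hM.isUnit
    have e : mat g = M * (diagonal fun j => r * sg (s 0 j)) * M⁻¹ := by
      rw [← hgM, mul_assoc, mul_nonsing_inv _ hu, mul_one]
    rw [e, trace_mul_cycle, nonsing_inv_mul _ hu, one_mul, trace_diagonal, Fin.sum_univ_four]
    ring
  -- the adjoint is a multiple
  have hcube : (r * r) • (mat g).map cube = (mat g)ᵀ := by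
    have h1 : (mat g)ᵀ * ((mat g)ᵀ * (mat g).map cube) = (mat g)ᵀ := by rw [unit_eq, mul_one]
    rw [← mul_assoc, ← transpose_mul, hg, transpose_smul, transpose_one, smul_mul_assoc, one_mul] at h1
    exact h1
  have h2 := congrArg Matrix.trace hcube
  rw [trace_smul, trace_transpose,
    show ((mat g).map cube).trace = cube (mat g).trace from (map_sum cube (fun i => mat g i i) Finset.univ).symm, htr,
    smul_eq_mul] at h2
  exact root_trace r _ _ _ _ hr hprod h2

/-- The scalar square root of minus one. -/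
def iS : Cfsg.SU 4 K 3 :=
  ⟨⟨diagonal fun _ => (⟨0, 1⟩ : K), by decide +kernel⟩, fun u v => herm_preserved (by decide +kernel) u v⟩

theorem iS_mat : mat iS = (⟨0, 1⟩ : K) • 1 := by decide +kernel

theorem lift_sq {a : U} (ha : a * a = 1) : ∃ g : Cfsg.SU 4 K 3, pr g = a ∧ g * g = 1 := by
  obtain ⟨g, rfl⟩ := pr_surj a
  rw [← map_mul] at ha
  obtain ⟨c, hc⟩ := (central_iff _).mp ha
  have h4 : c ^ 4 = 1 := by
    have h := mat_det (g * g)
    rwa [hc, det_smul, Fintype.card_fin, det_one, mul_one] at h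
  rw [mat_mul] at hc
  rcases root_cases c h4 with rfl | rfl | ⟨r, rfl, hr⟩
  · exact ⟨g, rfl, mat_inj (by rw [mat_mul, hc, one_smul]; rfl)⟩
  · refine ⟨iS * g, ?_, mat_inj ?_⟩
    · rw [map_mul, (central_iff iS).mpr ⟨_, iS_mat⟩, one_mul]
    · rw [mat_mul, mat_mul, iS_mat, smul_mul_assoc, one_mul, smul_mul_smul_comm, hc, smul_smul,
        show (⟨0, 1⟩ : K) * ⟨0, 1⟩ * -1 = 1 by decide +kernel, one_smul]
      rfl
  · exact (no_root g hr hc).elim

theorem sq_one_cases : ∀ c : K, c * c = 1 → c = 1 ∨ c = -1 := by decide +kernel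

theorem comm_or_anti {g h : Cfsg.SU 4 K 3} (hg : g * g = 1) (hh : h * h = 1) (hgh : Commute (pr g) (pr h)) :
    mat g * mat h = mat h * mat g ∨ mat g * mat h = -(mat h * mat g) := by
  have h1 : pr (g * h * g⁻¹ * h⁻¹) = 1 := by
    simp only [map_mul, map_inv]
    rw [hgh.eq, mul_inv_cancel_right, mul_inv_cancel]
  obtain ⟨c, hc⟩ := (central_iff _).mp h1
  have e : g * h = g * h * g⁻¹ * h⁻¹ * (h * g) := by group
  have e' : mat g * mat h = c • (mat h * mat g) := by
    rw [← mat_mul, ← mat_mul, e, mat_mul, hc, smul_mul_assoc, one_mul]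
  have hcc : c * c = 1 := by
    have i1 : g⁻¹ = g := inv_eq_of_mul_eq_one_right hg
    have i2 : h⁻¹ = h := inv_eq_of_mul_eq_one_right hh
    have h2 : pr (h * g * h⁻¹ * g⁻¹) = 1 := by
      rw [show h * g * h⁻¹ * g⁻¹ = (g * h * g⁻¹ * h⁻¹)⁻¹ by group, map_inv, h1, inv_one]
    have h3 : g * h * g⁻¹ * h⁻¹ = h * g * h⁻¹ * g⁻¹ := by
      have := (pr_comm (g := g) h1).eq
      calc g * h * g⁻¹ * h⁻¹ = g⁻¹ * (g * (g * h * g⁻¹ * h⁻¹)) := by group
        _ = g⁻¹ * ((g * h * g⁻¹ * h⁻¹) * g) := by rw [this]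
        _ = g⁻¹ * g * h * g⁻¹ * h⁻¹ * g := by group
        _ = h * g * h⁻¹ * g⁻¹ := by simp only [i1, i2, hg, one_mul]
    have h4 := congrArg mat (show g * h * g⁻¹ * h⁻¹ * (g * h * g⁻¹ * h⁻¹) = 1 by
      conv_lhs => arg 2; rw [h3]
      group)
    rw [mat_mul, hc, mat_one, smul_mul_smul_comm, one_mul] at h4
    have := congrFun (congrFun h4 0) 0
    simpa using this
  rcases sq_one_cases c hcc with rfl | rfl
  · exact Or.inl (by rw [e', one_smul])
  · exact Or.inr (by rw [e', neg_one_smul])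

/-- A power with a Boolean exponent. -/
def bp {H : Type*} [Monoid H] (x : H) (b : Bool) : H := if b then x else 1

theorem even_three : ∀ s : Fin 3 → Fin 4 → Bool, (∀ i, sg (s i 0) * sg (s i 1) * sg (s i 2) * sg (s i 3) = 1) →
    ∃ a b c : Bool, (a || b || c) = true ∧ ∃ t : Bool, ∀ j,
      bp (sg (s 0 j)) a * bp (sg (s 1 j)) b * bp (sg (s 2 j)) c = sg t := by
  intro s hs
  have key : ∀ u v w : Fin 4 → Bool, (u 3 = (xor (xor (u 0) (u 1)) (u 2))) → (v 3 = (xor (xor (v 0) (v 1)) (v 2))) →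
      (w 3 = (xor (xor (w 0) (w 1)) (w 2))) → ∃ a b c : Bool, (a || b || c) = true ∧ ∃ t : Bool, ∀ j,
        bp (sg (u j)) a * bp (sg (v j)) b * bp (sg (w j)) c = sg t := by decide +kernel
  have h3 : ∀ a b c d : Bool, sg a * sg b * sg c * sg d = 1 → d = xor (xor a b) c := by decide +kernel
  exact key (s 0) (s 1) (s 2) (h3 _ _ _ _ (hs 0)) (h3 _ _ _ _ (hs 1)) (h3 _ _ _ _ (hs 2))

theorem no_three (g : Fin 3 → Cfsg.SU 4 K 3) (hsq : ∀ i, g i * g i = 1) (hcomm : ∀ i j, Commute (g i) (g j))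
    (hind : ∀ a b c : Bool, bp (pr (g 0)) a * bp (pr (g 1)) b * bp (pr (g 2)) c = 1 → (a || b || c) = false) :
    False := by
  obtain ⟨M, s, hM, hs⟩ := exists_diag (fun i => mat (g i)) (fun i => by rw [← mat_mul, hsq]; rfl)
    fun i j => by rw [← mat_mul, ← mat_mul, (hcomm i j).eq]
  obtain ⟨a, b, c, habc, t, ht⟩ := even_three s fun i => by
    have h := congrArg Matrix.det (hs i)
    rw [det_mul, det_mul, mat_det, one_mul, det_diagonal, Fin.prod_univ_four] at h
    exact mul_left_cancel₀ hM (h.symm.trans (mul_one _).symm)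
  have hb : ∀ (i : Fin 3) (e : Bool), mat (bp (g i) e) * M = M * diagonal fun j => bp (sg (s i j)) e := by
    intro i e
    cases e
    · simp [bp, mat_one]
    · simpa [bp] using hs i
  have hprod : mat (bp (g 0) a * bp (g 1) b * bp (g 2) c) = sg t • 1 := by
    have h1 : mat (bp (g 0) a * bp (g 1) b * bp (g 2) c) * M = (sg t • (1 : Matrix (Fin 4) (Fin 4) K)) * M := by
      rw [mat_mul, mat_mul, mul_assoc, hb 2 c, ← mul_assoc, mul_assoc (mat _) (mat _) M, hb 1 b, ← mul_assoc, hb 0 a,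
        mul_assoc, mul_assoc, diagonal_mul_diagonal, diagonal_mul_diagonal, smul_mul_assoc, one_mul]
      rw [show (fun j => bp (sg (s 0 j)) a * (bp (sg (s 1 j)) b * bp (sg (s 2 j)) c)) = fun _ => sg t from
        funext fun j => by rw [← mul_assoc]; exact ht j, ← smul_one_eq_diagonal, Matrix.mul_smul, mul_one]
    exact ((Matrix.isUnit_iff_isUnit_det M).mpr hM.isUnit).mul_right_cancel h1
  have h1 := (central_iff _).mpr ⟨_, hprod⟩
  have hbp : ∀ (x : Cfsg.SU 4 K 3) (e : Bool), pr (bp x e) = bp (pr x) e := fun x e => by cases e <;> simp [bp]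
  rw [map_mul, map_mul, hbp, hbp, hbp] at h1
  rw [hind a b c h1] at habc
  exact Bool.noConfusion habc

/-- Elements with a lift commuting with `g`. -/
def perp (A : Subgroup U) (g : Cfsg.SU 4 K 3) : Subgroup U := A ⊓ (centralizer ({g} : Set (Cfsg.SU 4 K 3))).map pr

theorem perp_lift {A : Subgroup U} {g h : Cfsg.SU 4 K 3} (hb : pr h ∈ perp A g) : Commute g h := by
  obtain ⟨k, hk, e⟩ := hb.2
  have h1 : pr (k⁻¹ * h) = 1 := by rw [map_mul, map_inv, e, inv_mul_cancel]
  have := (show Commute g k from (mem_centralizer_singleton_iff.mp hk).symm).mul_right (pr_comm h1)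
  rwa [mul_inv_cancel_left] at this

theorem perp_card {A : Subgroup U} (hA : ∀ a ∈ A, a * a = 1) {g : Cfsg.SU 4 K 3} (hg : g * g = 1) (hgA : pr g ∈ A) :
    Nat.card A ≤ 2 * Nat.card (perp A g) := by
  classical
  haveI : Finite U := Nat.finite_of_card_ne_zero (by rw [card_psu]; norm_num)
  have hcomm : ∀ a ∈ A, ∀ b ∈ A, Commute a b := fun a ha b hb => by
    have h1 := hA _ (mul_mem ha hb)
    have i1 := inv_eq_of_mul_eq_one_right (hA a ha)
    have i2 := inv_eq_of_mul_eq_one_right (hA b hb)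
    have := inv_eq_of_mul_eq_one_right h1
    rw [_root_.mul_inv_rev, i1, i2] at this
    exact this.symm
  by_cases hall : A ≤ perp A g
  · have := card_le_of_le hall
    omega
  obtain ⟨b₀, hb₀, hb₀'⟩ := SetLike.not_le_iff_exists.mp hall
  obtain ⟨k₀, rfl, hk₀⟩ := lift_sq (hA _ hb₀)
  have hanti : ∀ h, h * h = 1 → pr h ∈ A → pr h ∉ perp A g → mat g * mat h = -(mat h * mat g) := fun h hh hhA hn =>
    (comm_or_anti hg hh (hcomm _ hgA _ hhA)).resolve_left fun e => hn ⟨hhA, h,
      mem_centralizer_singleton_iff.mpr (mat_inj (by rw [mat_mul, mat_mul, e])), rfl⟩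
  have hmul : ∀ b ∈ A, b ∉ perp A g → b * pr k₀ ∈ perp A g := fun b hb hb' => by
    obtain ⟨h, rfl, hh⟩ := lift_sq (hA _ hb)
    refine ⟨mul_mem hb hb₀, h * k₀, mem_centralizer_singleton_iff.mpr (mat_inj ?_), map_mul _ _ _⟩
    have e1 := hanti h hh hb hb'
    have e2 := hanti k₀ hk₀ hb₀ hb₀'
    rw [mat_mul, mat_mul, mat_mul]
    symm
    show mat g * (mat h * mat k₀) = mat h * mat k₀ * mat g
    rw [← mul_assoc (mat g), e1, neg_mul, mul_assoc (mat h) (mat g), e2, mul_neg, neg_neg,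
      mul_assoc]
  let f : A → perp A g × Bool := fun b =>
    if hb : (b : U) ∈ perp A g then (⟨b, hb⟩, true) else (⟨(b : U) * pr k₀, hmul b b.2 hb⟩, false)
  have hf : Function.Injective f := fun a b e => by
    simp only [f] at e
    split_ifs at e with ha hb hb <;> simp only [Prod.mk.injEq, Bool.true_eq_false, Bool.false_eq_true, and_false, and_true] at e
    · exact Subtype.ext (congrArg (fun w : perp A g => (w : U)) e)
    · exact Subtype.ext (mul_right_cancel (congrArg (fun w : perp A g => (w : U)) e))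
  have := Nat.card_le_card_of_injective f hf
  rw [Nat.card_prod, mul_comm] at this
  simpa using this

theorem exists_not_in {A : Subgroup U} (s : Finset U) (h : s.card < Nat.card A) : ∃ a ∈ A, a ∉ s := by
  by_contra! hn
  have := Nat.card_le_card_of_injective (fun a : A => (⟨a.1, hn a.1 a.2⟩ : s)) fun a b e =>
    Subtype.ext (congrArg (fun w : s => (w : U)) e)
  rw [Nat.card_eq_fintype_card (α := s), Fintype.card_coe] at this
  omega

/-- The two-rank is at most four. -/
theorem elementary_le (A : Subgroup U) (hA : ∀ a ∈ A, a * a = 1) : Nat.card A ≤ 16 := by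
  classical
  haveI : Finite U := Nat.finite_of_card_ne_zero (by rw [card_psu]; norm_num)
  by_contra hlt
  push Not at hlt
  obtain ⟨a₁, ha₁, ha₁'⟩ := exists_not_in (A := A) {1} (by rw [Finset.card_singleton]; omega)
  obtain ⟨g₁, rfl, hg₁⟩ := lift_sq (hA _ ha₁)
  have h1 := perp_card hA hg₁ ha₁
  have hle1 : perp A g₁ ≤ A := inf_le_left
  obtain ⟨a₂, ha₂, ha₂'⟩ := exists_not_in (A := perp A g₁) {1, pr g₁}
    (lt_of_le_of_lt Finset.card_le_two (by omega))
  obtain ⟨g₂, rfl, hg₂⟩ := lift_sq (hA _ (hle1 ha₂))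
  have h2 := perp_card (A := perp A g₁) (fun a ha => hA a (hle1 ha)) hg₂ ha₂
  obtain ⟨a₃, ha₃, ha₃'⟩ := exists_not_in (A := perp (perp A g₁) g₂) {1, pr g₁, pr g₂, pr g₁ * pr g₂}
    (lt_of_le_of_lt Finset.card_le_four (by omega))
  obtain ⟨g₃, rfl, hg₃⟩ := lift_sq (hA _ (hle1 ha₃.1))
  simp only [Finset.mem_insert, Finset.mem_singleton, not_or] at ha₁' ha₂' ha₃'
  have i1 := inv_eq_of_mul_eq_one_right (hA _ ha₁)
  have i2 := inv_eq_of_mul_eq_one_right (hA _ (hle1 ha₂))
  have c12 : Commute g₁ g₂ := perp_lift ha₂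
  have c13 : Commute g₁ g₃ := perp_lift ha₃.1
  have c23 : Commute g₂ g₃ := perp_lift ha₃
  refine no_three ![g₁, g₂, g₃] (Fin.cases hg₁ (Fin.cases hg₂ (Fin.cases hg₃ fun i => i.elim0)))
    (Fin.cases (Fin.cases (Commute.refl _) (Fin.cases c12 (Fin.cases c13 fun i => i.elim0)))
      (Fin.cases (Fin.cases c12.symm (Fin.cases (Commute.refl _) (Fin.cases c23 fun i => i.elim0)))
        (Fin.cases (Fin.cases c13.symm (Fin.cases c23.symm (Fin.cases (Commute.refl _) fun i => i.elim0)))
          fun i => i.elim0))) fun a b c e => ?_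
  change bp (pr g₁) a * bp (pr g₂) b * bp (pr g₃) c = 1 at e
  match a, b, c with
  | false, false, false => rfl
  | false, false, true => exact absurd (by simpa [bp] using e) ha₃'.1
  | false, true, false => exact absurd (by simpa [bp] using e) ha₂'.1
  | false, true, true =>
    exact absurd ((eq_inv_of_mul_eq_one_right (show pr g₂ * pr g₃ = 1 by simpa [bp] using e)).trans i2) ha₃'.2.2.1
  | true, false, false => exact absurd (by simpa [bp] using e) ha₁'
  | true, false, true =>
    exact absurd ((eq_inv_of_mul_eq_one_right (show pr g₁ * pr g₃ = 1 by simpa [bp] using e)).trans i1) ha₃'.2.1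
  | true, true, false =>
    exact absurd ((eq_inv_of_mul_eq_one_right (show pr g₁ * pr g₂ = 1 by simpa [bp] using e)).trans i1) ha₂'.2
  | true, true, true =>
    exact absurd ((eq_inv_of_mul_eq_one_right (show pr g₁ * pr g₂ * pr g₃ = 1 by simpa [bp] using e)).trans
      (inv_eq_of_mul_eq_one_right (hA _ (mul_mem ha₁ (hle1 ha₂))))) ha₃'.2.2.2

/-- The diagonal element, the first and the second permutation. -/
def gen : Fin 3 → Matrix (Fin 4) (Fin 4) K := ![diagonal ![⟨0, 1⟩, ⟨0, 2⟩, 1, 1],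
  Matrix.of ![![0, 1, 0, 0], ![1, 0, 0, 0], ![0, 0, 0, 1], ![0, 0, 1, 0]],
  Matrix.of ![![0, 0, 1, 0], ![0, 0, 0, 1], ![1, 0, 0, 0], ![0, 1, 0, 0]]]

theorem gen_unit : ∀ k, (gen k).det = 1 ∧ (gen k)ᵀ * (gen k).map cube = 1 := by decide +kernel

/-- The translations of the four indices. -/
def xr (s i : Fin 4) : Fin 4 := (![![0, 1, 2, 3], ![1, 0, 3, 2], ![2, 3, 0, 1], ![3, 2, 1, 0]] : Fin 4 → Fin 4 → Fin 4) s i

theorem xr_facts : ∀ s t i : Fin 4, xr t (xr s i) = xr (xr s t) i ∧ xr 0 i = i ∧ xr s (xr s i) = i := by decide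

/-- Monomial with the given translation. -/
def Mon (s : Fin 4) (M : Matrix (Fin 4) (Fin 4) K) : Prop := ∀ i j, j ≠ xr s i → M i j = 0

theorem Mon.mul_apply {s t : Fin 4} {M N : Matrix (Fin 4) (Fin 4) K} (hM : Mon s M) (i j : Fin 4) :
    (M * N) i j = M i (xr s i) * N (xr s i) j := by
  rw [Matrix.mul_apply, Finset.sum_eq_single (xr s i)]
  · exact fun k _ hk => by rw [hM i k hk, zero_mul]
  · exact fun h => absurd (Finset.mem_univ _) h

theorem Mon.mul {s t : Fin 4} {M N : Matrix (Fin 4) (Fin 4) K} (hM : Mon s M) (hN : Mon t N) :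
    Mon (xr s t) (M * N) := fun i j hj => by
  rw [hM.mul_apply (t := t), hN _ j (by rwa [(xr_facts s t i).1]), mul_zero]

theorem pow_eight : ∀ x : K, x ≠ 0 → x ^ 8 = 1 := by decide +kernel

theorem mon_pow {g : Cfsg.SU 4 K 3} {s : Fin 4} (h : Mon s (mat g)) : g ^ 16 = 1 := by
  have h2 : ∀ i j, j ≠ i → mat (g * g) i j = 0 := fun i j hj => by
    rw [mat_mul, h.mul_apply (t := s), h (xr s i) j (by rwa [(xr_facts s s i).2.2]), mul_zero]
  have hd : mat (g * g) = diagonal fun i => mat (g * g) i i := Matrix.ext fun i j => by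
    rcases eq_or_ne i j with rfl | hij
    · rw [diagonal_apply_eq]
    · rw [diagonal_apply_ne _ hij, h2 i j hij.symm]
  have hne : ∀ i, mat (g * g) i i ≠ 0 := fun i hi => by
    have h0 := mat_det (g * g)
    rw [hd, det_diagonal] at h0
    exact zero_ne_one ((Finset.prod_eq_zero (f := fun j => mat (g * g) j j) (Finset.mem_univ i) hi).symm.trans h0)
  have hp : ∀ n : ℕ, mat ((g * g) ^ n) = diagonal fun i => (mat (g * g) i i) ^ n := by
    intro n
    induction n with
    | zero => simp [mat_one]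
    | succ n ih =>
      rw [pow_succ, mat_mul, ih, hd, diagonal_mul_diagonal]
      simp [pow_succ]
  refine mat_inj ?_
  rw [show g ^ 16 = (g * g) ^ 8 by rw [← pow_two, ← pow_mul], hp, mat_one]
  simp [pow_eight _ (hne _)]

/-- An entry. -/
def ent (M : Matrix (Fin 4) (Fin 4) K) (i j : Fin 4) : K := M i j

theorem mon_gen : ∀ k : Fin 3, ∀ i j : Fin 4, j = xr ((![0, 1, 2] : Fin 3 → Fin 4) k) i ∨ ent (gen k) i j = 0 := by
  decide +kernel

/-- The two commutators. -/
def gcm (k : Fin 3) : Matrix (Fin 4) (Fin 4) K := gen 0 * gen k * (gen 0 * gen 0 * gen 0) * gen k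

theorem gen_orders : gen 0 * gen 0 * gen 0 * gen 0 = 1 ∧ gen 1 * gen 1 = 1 ∧ gen 2 * gen 2 = 1 := by decide +kernel

theorem gen_commutators : (∀ c : K, gcm 1 ≠ c • 1) ∧ (∀ c : K, gcm 2 ≠ c • 1) ∧ (∀ c : K, gcm 1 ≠ c • gcm 2) := by
  decide +kernel

/-- A two-subgroup with two different commutators. -/
theorem exists_two_comm : ∃ P : Subgroup U, IsPGroup 2 P ∧ ∃ a ∈ P, ∃ b ∈ P, ∃ c ∈ P,
    ⁅a, b⁆ ≠ 1 ∧ ⁅a, c⁆ ≠ 1 ∧ ⁅a, b⁆ ≠ ⁅a, c⁆ := by
  let g : Fin 3 → Cfsg.SU 4 K 3 := fun k =>
    ⟨⟨gen k, (gen_unit k).1⟩, fun u v => herm_preserved (gen_unit k).2 u v⟩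
  let Mn : Submonoid (Cfsg.SU 4 K 3) :=
    { carrier := {g | ∃ s, Mon s (mat g)}
      one_mem' := ⟨0, fun i j hj => by rw [mat_one, one_apply_ne]; rw [(xr_facts 0 0 i).2.1] at hj; exact hj.symm⟩
      mul_mem' := fun {a b} ⟨s, hs⟩ ⟨t, ht⟩ => ⟨_, by rw [mat_mul]; exact hs.mul ht⟩ }
  let Pm : Subgroup (Cfsg.SU 4 K 3) :=
    { Mn with
      inv_mem' := fun {a} ha => by
        obtain ⟨s, hs⟩ := ha
        have e : a⁻¹ = a ^ 15 := inv_eq_of_mul_eq_one_right (by rw [← pow_succ', mon_pow hs])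
        exact e ▸ pow_mem (show a ∈ Mn from ⟨s, hs⟩) 15 }
  have hP : IsPGroup 2 Pm := fun a => ⟨4, by
    obtain ⟨s, hs⟩ := a.2
    exact Subtype.ext (by rw [SubmonoidClass.coe_pow]; exact mon_pow hs)⟩
  have hg : ∀ k, g k ∈ Pm := fun k => ⟨(![0, 1, 2] : Fin 3 → Fin 4) k, fun i j hj => (mon_gen k i j).resolve_left hj⟩
  refine ⟨Pm.map pr, hP.map pr, _, ⟨_, hg 0, rfl⟩, _, ⟨_, hg 1, rfl⟩, _, ⟨_, hg 2, rfl⟩, ?_⟩
  obtain ⟨n1, n2, n3⟩ := gen_commutators
  obtain ⟨o0, o1, o2⟩ := gen_orders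
  have hc : ∀ k, gen k * gen k = 1 → mat ⁅g 0, g k⁆ = gcm k := fun k hk => by
    have i0 : (g 0)⁻¹ = g 0 * g 0 * g 0 := inv_eq_of_mul_eq_one_right (mat_inj (by
      rw [mat_one, ← o0, mat_mul, mat_mul, mat_mul, ← mul_assoc, ← mul_assoc]
      rfl))
    have ik : (g k)⁻¹ = g k := inv_eq_of_mul_eq_one_right (mat_inj (by rw [mat_mul, mat_one, ← hk]; rfl))
    rw [commutatorElement_def, i0, ik, mat_mul, mat_mul, mat_mul, mat_mul, mat_mul]
    rfl
  have key : ∀ (x y : Cfsg.SU 4 K 3), pr x = pr y → ∃ c : K, mat x = c • mat y := fun x y e => by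
    obtain ⟨c, hc⟩ := (central_iff (x * y⁻¹)).mp (by rw [map_mul, map_inv, e, mul_inv_cancel])
    exact ⟨c, by rw [← inv_mul_cancel_right x y, mat_mul, hc, smul_mul_assoc, one_mul]⟩
  refine ⟨fun e => ?_, fun e => ?_, fun e => ?_⟩
  · rw [← map_commutatorElement, ← map_one pr] at e
    obtain ⟨c, h⟩ := key _ _ e
    exact n1 c ((hc 1 o1).symm.trans (h.trans (by rw [mat_one])))
  · rw [← map_commutatorElement, ← map_one pr] at e
    obtain ⟨c, h⟩ := key _ _ e
    exact n2 c ((hc 2 o2).symm.trans (h.trans (by rw [mat_one])))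
  · rw [← map_commutatorElement, ← map_commutatorElement] at e
    obtain ⟨c, h⟩ := key _ _ e
    exact n3 c (by rw [← hc 1 o1, h, hc 2 o2])

/-- A two-subgroup with at most one non-trivial commutator has order at most sixty-four. -/
theorem small_derived (S : Subgroup U) (hS : IsPGroup 2 S) (t : U) (h : ∀ a ∈ S, ∀ b ∈ S, ⁅a, b⁆ = 1 ∨ ⁅a, b⁆ = t) :
    Nat.card S ≤ 64 := by
  haveI : Finite U := Nat.finite_of_card_ne_zero (by rw [card_psu]; norm_num)
  haveI : Fact (Nat.Prime 2) := ⟨Nat.prime_two⟩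
  obtain ⟨n, hn⟩ := IsPGroup.iff_card.mp hS
  have hd : 2 ^ n ∣ 3265920 := hn ▸ card_psu ▸ card_subgroup_dvd_card S
  rw [hn]
  by_contra hlt
  have h6 : 7 ≤ n := by
    by_contra h'
    exact hlt (le_trans (Nat.pow_le_pow_right (by norm_num) (show n ≤ 6 by omega)) (by norm_num))
  have h7 : n = 7 := by
    by_contra h'
    have := (pow_dvd_pow 2 (show 8 ≤ n by omega)).trans hd
    norm_num at this
  have hv : (Nat.card U).factorization 2 = 7 := by
    rw [card_psu, show (3265920 : ℕ) = 2 ^ 7 * 25515 by norm_num, Nat.factorization_mul (by norm_num) (by norm_num),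
      Nat.Prime.factorization_pow Nat.prime_two]
    simp [Nat.factorization_eq_zero_of_not_dvd (by norm_num : ¬ 2 ∣ 25515)]
  let T : Sylow 2 U := Sylow.ofCard S (by rw [hn, hv, h7])
  obtain ⟨P, hP, a, ha, b, hb, c, hc, hab, hac, hne⟩ := exists_two_comm
  obtain ⟨T', hT'⟩ := hP.exists_le_sylow
  obtain ⟨g, hg⟩ := MulAction.exists_smul_eq U T T'
  have hmem : ∀ x ∈ P, g⁻¹ * x * g ∈ S := fun x hx => by
    have h1 : x ∈ ((g • T : Sylow 2 U) : Subgroup U) := hg ▸ hT' hx
    rw [Sylow.coe_subgroup_smul, Subgroup.mem_pointwise_smul_iff_inv_smul_mem] at h1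
    simpa [MulAut.smul_def, MulAut.conj_symm_apply, mul_assoc, T] using h1
  have hval : ∀ x ∈ P, ∀ y ∈ P, ⁅x, y⁆ = 1 ∨ ⁅x, y⁆ = g * t * g⁻¹ := fun x hx y hy => by
    have e : ⁅x, y⁆ = g * ⁅g⁻¹ * x * g, g⁻¹ * y * g⁆ * g⁻¹ := by simp only [commutatorElement_def]; group
    rcases h _ (hmem x hx) _ (hmem y hy) with r | r <;> rw [e, r]
    · left; group
    · exact Or.inr rfl
  exact hne (((hval a ha b hb).resolve_left hab).trans ((hval a ha c hc).resolve_left hac).symm)

end Cfsg.Lib.FiLargest
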