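import Cfsg.Agent.FiLargest.Isolation
import Cfsg.Agent.SolvStruct.SplitResidual

/-!
The residual of the group contains `K`.
-/

set_option autoImplicit false
set_option maxRecDepth 100000
set_option maxHeartbeats 1000000
set_option linter.unusedSectionVars false
set_option linter.style.haveILetI false

namespace Cfsg.Lib.FiLargest

open Subgroup
open Cfsg.Lib.LargeExtra (X2)
open Cfsg.Lib.LargeExtra.OutExtra
open Cfsg.Lib.LargeFischer (rep FSetting pw3 pw3_zero pw3_add)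
open scoped commutatorElement

universe u

/-- The residual. -/
abbrev Res (G : Type u) [Group G] : Subgroup G := Cfsg.pResidual 2 G

theorem res_res (G : Type u) [Group G] [Finite G] : Cfsg.pResidual 2 ↥(Res G) = ⊤ := by
  haveI : Fact (Nat.Prime 2) := ⟨Nat.prime_two⟩
  exact Cfsg.Lib.SolvStruct.pResidual_pResidual_eq_top

theorem odd_mem_res {G : Type u} [Group G] {g : G} {n : ℕ} (hn : Odd n) (h : g ^ n = 1) : g ∈ Res G :=
  Cfsg.Lib.Transfer.mem_pResidual_of_coprime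
    (Nat.coprime_two_right.mpr (Odd.of_dvd_nat hn (orderOf_dvd_of_pow_eq_one h)))

namespace Ctx

variable {G : Type u} [Group G] [Finite G] {z : G} (c : Ctx z)

include c in
theorem four_one {a : ↥(Cn z)} (ha : a ∈ J z) : a ^ 4 = 1 := by
  refine Subtype.ext ?_
  rw [SubgroupClass.coe_pow, OneMemClass.coe_one, show 4 = 2 * 2 from rfl, pow_mul, pow_two (a : G)]
  rcases c.X2g.sq (a : G) ⟨a, ha, rfl⟩ with e | e <;> rw [e]
  · exact one_pow 2
  · rw [pow_two, c.X2g.zz]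

/-- An element of order three inducing the cube root. -/
theorem exists_om : ∃ m ∈ c.K, m ^ 3 = 1 ∧ (m : G) ∈ Res G ∧ ∀ v, c.ρ m v = c.F.om v := by
  obtain ⟨k, hk, -, hρk⟩ := c.exists_lift (c.F.E.α (Pi.single 0 1))
  have hom : ∀ v, c.ρ k v = c.F.om v := fun v => by rw [c.om_eq, ← hρk]
  have h3 : k ^ 3 ∈ J z := c.ρ_ker.mp (Equiv.ext fun v => by
    simp only [pow_succ, pow_zero, one_mul, map_mul, Equiv.Perm.mul_apply, hom, c.om_three, Equiv.Perm.one_apply])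
  have hm : (k ^ 4) ^ 3 = 1 := by
    rw [← pow_mul, show 4 * 3 = 3 * 4 from rfl, pow_mul, c.four_one h3]
  refine ⟨k ^ 4, pow_mem hk 4, hm, odd_mem_res (n := 3) ⟨1, rfl⟩ ?_, fun v => ?_⟩
  · have := congrArg (fun w : ↥(Cn z) => (w : G)) hm
    simpa using this
  · simp only [pow_succ, pow_zero, one_mul, map_mul, Equiv.Perm.mul_apply, hom, c.om_three]

include c in
theorem J_le_res : Jg z ≤ Res G := by
  obtain ⟨m, -, -, hmG, hom⟩ := c.exists_om
  let S : Subgroup ↥(J z) := (Res G).comap ((Cn z).subtype.comp (J z).subtype)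
  have hS : ∀ v, ∃ u ∈ S, c.pt u = v := fun v => by
    set y := c.D.s (c.F.om v)
    refine ⟨y * MulAut.conjNormal m y⁻¹, ?_, ?_⟩
    · show ((((y * MulAut.conjNormal m y⁻¹ : ↥(J z))) : ↥(Cn z)) : G) ∈ Res G
      simp only [Subgroup.coe_mul, MulAut.conjNormal_apply, Subgroup.coe_inv]
      rw [show ((y : ↥(Cn z)) : G) * ((m : G) * ((y : ↥(Cn z)) : G)⁻¹ * (m : G)⁻¹) =
        ((y : ↥(Cn z)) : G) * (m : G) * ((y : ↥(Cn z)) : G)⁻¹ * (m : G)⁻¹ by group]
      exact mul_mem (Normal.conj_mem inferInstance _ hmG _) (inv_mem hmG)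
    · have hy : c.pt y = c.F.om v := c.D.π_s _
      show c.D.π (y * MulAut.conjNormal m y⁻¹) = v
      rw [c.D.mul, show c.D.π (MulAut.conjNormal m y⁻¹) = c.ρ m (c.pt y⁻¹) from (c.act m y⁻¹).symm, hom,
        show c.pt y⁻¹ = c.pt y from c.D.π_inv y |>.trans (c.F.W.neg_eq _)]
      show c.pt y + c.F.om (c.pt y) = v
      rw [hy, add_comm, c.om_om, add_assoc, add_comm v, ← add_assoc, c.F.dbl, zero_add]
  obtain ⟨w, hw⟩ : ∃ w, c.F.B c.F.v0 w ≠ 0 := by
    by_contra! hn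
    exact c.v0_sing.2 (c.F.nondeg _ hn)
  obtain ⟨a, ha, ha'⟩ := hS c.F.v0
  obtain ⟨b, hb, hb'⟩ := hS w
  have hab : ⁅a, b⁆ = c.zq := by
    refine (center_cases c.D.es ((c.D.ker _).mp ?_)).resolve_left fun e => hw ?_
    · rw [commutatorElement_def, c.D.mul, c.D.mul, c.D.mul, c.D.π_inv, c.D.π_inv]; abel
    · rw [← ha', ← hb']
      exact (c.B_eq a b).mpr (commutatorElement_eq_one_iff_mul_comm.mp e)
  have hzS : c.zq ∈ S := hab ▸ (by
    rw [commutatorElement_def]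
    exact mul_mem (mul_mem (mul_mem ha hb) (inv_mem ha)) (inv_mem hb))
  rintro _ ⟨y, hy, rfl⟩
  obtain ⟨u, hu, hu'⟩ := hS (c.pt ⟨y, hy⟩)
  rcases center_cases c.D.es (c.D.eq_iff.mp hu') with e | e
  · have he : u = ⟨y, hy⟩ := inv_mul_eq_one.mp e
    subst he
    exact hu
  · have he : (⟨y, hy⟩ : ↥(J z)) = u * c.zq := inv_mul_eq_iff_eq_mul.mp e
    exact (show (⟨y, hy⟩ : ↥(J z)) ∈ S from he ▸ mul_mem hu hzS)

include c in
theorem five_dvd : 5 ∣ Nat.card c.K := ⟨3 * 2 ^ 13 * 653184, by rw [c.Kcard]; norm_num⟩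

theorem K_le_res : c.K ≤ (Res G).subgroupOf (Cn z) := by
  classical
  haveI := c.Kn
  haveI := simple_U
  haveI : Fact (Nat.Prime 5) := ⟨by norm_num⟩
  obtain ⟨m, hmK, -, hmG, hom⟩ := c.exists_om
  let N0 : Subgroup ↥(Cn z) := (Res G).subgroupOf (Cn z) ⊓ c.K
  let φ : ↥c.K →* U := c.F.E.ψ.comp ((rep (J z) c.D).comp c.K.subtype).rangeRestrict
  have hφ : Function.Surjective φ :=
    c.F.E.surj.comp ((rep (J z) c.D).comp c.K.subtype).rangeRestrict_surjective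
  have hker : ∀ k : ↥c.K, φ k = 1 → ∃ j : ZMod 3, c.toX k k.2 = pw3 c.F.E.ω j := fun k hk => c.F.E.ω_onto hk
  haveI : (N0.subgroupOf c.K).Normal := inferInstance
  haveI : ((N0.subgroupOf c.K).map φ).Normal := Subgroup.Normal.map inferInstance φ hφ
  have htop : (N0.subgroupOf c.K).map φ = ⊤ := by
    refine (IsSimpleGroup.eq_bot_or_eq_top_of_normal _ inferInstance).resolve_left fun hbot => ?_
    obtain ⟨k, hk⟩ := exists_prime_orderOf_dvd_card' (G := ↥c.K) 5 c.five_dvd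
    have h5 : k ^ 5 = 1 := hk ▸ pow_orderOf_eq_one k
    have hkN : k ∈ N0.subgroupOf c.K := ⟨odd_mem_res (n := 5) ⟨2, rfl⟩ (by
      have := congrArg (fun w : ↥c.K => ((w : ↥(Cn z)) : G)) h5
      simpa using this), k.2⟩
    have hk1 : φ k = 1 := mem_bot.mp (hbot ▸ mem_map_of_mem φ hkN)
    set y := ((rep (J z) c.D).comp c.K.subtype).rangeRestrict k with hy
    haveI : Finite (c.F.E.ψ.ker) := Nat.finite_of_card_ne_zero (by rw [c.F.E.card]; norm_num)
    have h3 : orderOf y ∣ 3 := by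
      rw [← c.F.E.card, ← orderOf_mk y (MonoidHom.mem_ker.mpr hk1)]
      exact orderOf_dvd_natCard _
    have h5' : orderOf y ∣ 5 := hk ▸ orderOf_map_dvd _ k
    have hy1 : y = 1 := orderOf_eq_one_iff.mp (Nat.eq_one_of_dvd_coprimes (by norm_num) h3 h5')
    have hkJ : (k : ↥(Cn z)) ∈ J z := c.ρ_ker.mp (congrArg Subtype.val hy1)
    have h4 : orderOf k ∣ 4 := orderOf_dvd_of_pow_eq_one (Subtype.ext (by simpa using c.four_one hkJ))
    rw [hk] at h4
    norm_num at h4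
  intro k hk
  obtain ⟨n, hn, hne⟩ : φ ⟨k, hk⟩ ∈ (N0.subgroupOf c.K).map φ := htop ▸ mem_top _
  have hq : φ (⟨k, hk⟩ * n⁻¹) = 1 := by rw [map_mul, map_inv, hne, mul_inv_cancel]
  obtain ⟨j, hj⟩ := hker _ hq
  have key : ∀ r : ↥(Cn z), (r : G) ∈ Res G → c.ρ (k * (n : ↥(Cn z))⁻¹) = c.ρ r → (k : G) ∈ Res G := fun r hr he => by
    have h1 : k * (n : ↥(Cn z))⁻¹ * r⁻¹ ∈ J z := c.ρ_ker.mp (by rw [map_mul, map_inv c.ρ r, he, mul_inv_cancel])
    have h2 := mul_mem (mul_mem (c.J_le_res ⟨_, h1, rfl⟩) hr) (show ((n : ↥(Cn z)) : G) ∈ Res G from hn.1)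
    simpa [mul_assoc] using h2
  have hval : ∀ v, c.ρ (k * (n : ↥(Cn z))⁻¹) v = c.F.ρ (pw3 c.F.E.ω j) v := fun v => by
    rw [← hj, c.toX_apply]; rfl
  rcases (show ∀ r : ZMod 3, r = 0 ∨ r = 1 ∨ r = 1 + 1 by decide) j with rfl | rfl | rfl
  · refine key 1 (one_mem _) (Equiv.ext fun v => ?_)
    rw [hval, pw3_zero, map_one, map_one]
  · refine key m hmG (Equiv.ext fun v => ?_)
    rw [hval, hom, c.om_eq, c.F.E.α_e]
  · refine key (m * m) (mul_mem hmG hmG) (Equiv.ext fun v => ?_)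
    rw [hval, map_mul c.ρ, Equiv.Perm.mul_apply, hom, hom, c.om_eq, c.om_eq, c.F.E.α_e,
      pw3_add c.F.E.ω_three, map_mul, Equiv.Perm.mul_apply]

end Ctx

end Cfsg.Lib.FiLargest
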