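import Cfsg.Agent.LargeFischer.Setting
import Cfsg.Agent.LargeFischer.LineModule
import Cfsg.Agent.Components.Misc.TransvectionCentralizer
import Cfsg.Agent.FiLargest.Rank

/-!
The setting of an involution whose centraliser is a large extraspecial group extended by a threefold cover of the
unitary group in dimension four over nine elements and something above it.
-/

set_option autoImplicit false
set_option maxRecDepth 100000
set_option maxHeartbeats 1000000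
set_option linter.unusedSectionVars false
set_option linter.style.haveILetI false

namespace Cfsg.Lib.FiLargest

open Subgroup Matrix QuadraticMap
open Cfsg.Lib.LargeExtra (X2 fitting_setting conj_norm mem_map_conj mem_conj_of_mem mem_zpowers_two exists_x2)
open Cfsg.Lib.LargeExtra.OutExtra
open Cfsg.Lib.LargeFischer (rep rep_apply rep_add rep_q rep_ker FSetting CentralThree isExtraspecial_congr
  central_of_card_three exists_radical card_centralizing abelian_bound zmod2_dbl card_coord F4 w4 wp C5)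
open scoped commutatorElement

universe u w

variable {G : Type u} [Group G] [Finite G]

/-- The centraliser. -/
abbrev Cn (z : G) : Subgroup G := centralizer ({z} : Set G)

/-- Its two-core. -/
abbrev J (z : G) : Subgroup ↥(Cn z) := Cfsg.pCore 2 ↥(Cn z)

/-- The two-core in the group. -/
abbrev Jg (z : G) : Subgroup G := (J z).map (Cn z).subtype

/-- The data. -/
structure Ctx (z : G) where
  hz : orderOf z = 2
  M : Subgroup ↥(Cn z)
  K : Subgroup ↥(Cn z)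
  Mn : M.Normal
  Kn : K.Normal
  JM : J z ≤ M
  MK : M ≤ K
  M3 : Nat.card ↥M = 3 * Nat.card ↥(J z)
  iso : Nonempty ((↥K ⧸ M.subgroupOf K) ≃* U)
  Kcard : Nat.card ↥K = 3 * 2 ^ 13 * 3265920
  ι : Type
  [fι : Fintype ι]
  [dι : DecidableEq ι]
  zq : ↥(J z)
  T : QuadraticForm (ZMod 2) (ι → ZMod 2)
  D : Coord zq T
  X2g : X2 (Jg z) z
  CQ : centralizer (Jg z : Set G) ≤ Jg z
  CN : Cn z ≤ normalizer (Jg z : Set G)
  hE : Cfsg.IsExtraspecial 2 ↥(J z)
  card : Nat.card ↥(J z) = 2 ^ 13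
  zv : ((zq : ↥(Cn z)) : G) = z
  selfc : centralizer (J z : Set ↥(Cn z)) ≤ J z
  ker : (rep (J z) D).ker = J z
  F : FSetting ↥((rep (J z) D).comp K.subtype).range U (ι → ZMod 2)
  Fq : F.q = ⇑T
  Fρ : F.ρ = ((rep (J z) D).comp K.subtype).range.subtype

attribute [instance] Ctx.fι Ctx.dι

variable {z : G}

/-- The data exist. -/
theorem exists_ctx (hz : orderOf z = 2) (hE : Cfsg.IsExtraspecial 2 ↥(J z)) (hcard : Nat.card ↥(J z) = 2 ^ 13)
    (hCQ' : centralizer (J z : Set ↥(Cn z)) ≤ J z) (N M : Subgroup ↥(Cn z)) [hNn : N.Normal] [hMn : M.Normal]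
    (hQN : J z ≤ N) (hNM : N ≤ M) (hN : Nat.card ↥N = 3 * Nat.card ↥(J z))
    (e : (↥M ⧸ N.subgroupOf M) ≃* U) : ∃ c : Ctx z, c.M = N ∧ c.K = M := by
  classical
  haveI : Fact (Nat.Prime 2) := ⟨Nat.prime_two⟩
  obtain ⟨⟨R0⟩, hS, hScard⟩ := exists_radical Cfsg.Lib.UFourThreeCover.card_K
  haveI := hS
  haveI : Finite U := Nat.finite_of_card_ne_zero (by rw [hScard]; norm_num)
  set Qg := Jg z with hQg
  have eQg : ↥(J z) ≃* ↥Qg := (J z).equivMapOfInjective (Cn z).subtype (Cn z).subtype_injective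
  have hEg : Cfsg.IsExtraspecial 2 ↥Qg := isExtraspecial_congr eQg hE
  obtain ⟨hX, hCQ, hCN, -⟩ := fitting_setting hz (Q := Qg) (map_subtype_le (J z)) (by
    rw [Cfsg.Lib.TransvC.genFitting_eq_of_selfCentral (J z)
      (Cfsg.Lib.Components.isPGroup_pCore 2) hCQ']) hEg
  obtain ⟨zq, hzq⟩ := exists_coord hE (show Nat.card ↥(J z) = 2 ^ (2 * 6 + 1) from hcard)
  obtain ⟨ι, _, _, T, ⟨D⟩⟩ : ∃ (ι : Type) (_ : Fintype ι) (_ : DecidableEq ι) (T : QuadraticForm (ZMod 2) (ι → ZMod 2)),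
      Nonempty (Coord zq T) := by
    rcases hzq with h | ⟨-, h⟩ <;> exact ⟨_, _, _, _, h⟩
  have hzv : ((zq : (Cn z)) : G) = z := by
    refine (hX.cen _ ⟨_, zq.2, rfl⟩ fun a ha => ?_).resolve_left fun e => D.es.z_ne_one (Subtype.ext (Subtype.ext e))
    obtain ⟨a', ha', rfl⟩ := ha
    have h := mem_center_iff.mp (D.es.cen.symm ▸ mem_zpowers zq : zq ∈ center ↥(J z)) ⟨a', ha'⟩
    exact congrArg (fun x : ↥(J z) => ((x : (Cn z)) : G)) h
  haveI : Fact (Nat.Prime 2) := ⟨Nat.prime_two⟩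
  -- the representation
  set ρ := rep (J z) D with hρ
  have hker : ρ.ker = J z := rep_ker (J z) D hCQ'
  let ψ0 : ↥M →* U := e.toMonoidHom.comp (QuotientGroup.mk' (N.subgroupOf M))
  have hψ0 : Function.Surjective ψ0 := e.surjective.comp (QuotientGroup.mk'_surjective _)
  let ρM : ↥M →* Equiv.Perm (ι → ZMod 2) := ρ.comp M.subtype
  let X := ρM.range
  have hkM : ρM.rangeRestrict.ker ≤ ψ0.ker := fun m hm => by
    have : (m : (Cn z)) ∈ J z := hker ▸ (congrArg Subtype.val hm : ρ (m : (Cn z)) = 1)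
    show e (QuotientGroup.mk m) = 1
    rw [(QuotientGroup.eq_one_iff m).mpr (show (m : (Cn z)) ∈ N from hQN this), map_one]
  let ψ : ↥X →* U := ρM.rangeRestrict.liftOfSurjective ρM.rangeRestrict_surjective ⟨ψ0, hkM⟩
  have hψm : ∀ m, ψ (ρM.rangeRestrict m) = ψ0 m := fun m => ρM.rangeRestrict.liftOfRightInverse_comp_apply _ _ _ m
  have hψ : Function.Surjective ψ := fun y => by
    obtain ⟨m, rfl⟩ := hψ0 y
    exact ⟨_, hψm m⟩
  have hMcard : Nat.card ↥M = 3 * 2 ^ 13 * 3265920 := by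
    have h := card_eq_card_quotient_mul_card_subgroup (N.subgroupOf M)
    rw [Nat.card_congr (subgroupOfEquivOfLe hNM).toEquiv, hN, hcard, Nat.card_congr e.toEquiv, hScard] at h
    rw [h, mul_comm]
  have hXcard : Nat.card ↥X = 9797760 := by
    have hk : ρM.ker = (J z).subgroupOf M := by rw [← MonoidHom.comap_ker, hker]; rfl
    have h := card_eq_card_quotient_mul_card_subgroup ρM.ker
    rw [Nat.card_congr (QuotientGroup.quotientKerEquivRange ρM).toEquiv, hMcard, hk,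
      Nat.card_congr (subgroupOfEquivOfLe (hQN.trans hNM)).toEquiv, hcard] at h
    refine Nat.eq_of_mul_eq_mul_right (Nat.two_pow_pos 13) (h.symm.trans ?_)
    norm_num
  have hψker : Nat.card ψ.ker = 3 := by
    have h := card_eq_card_quotient_mul_card_subgroup ψ.ker
    rw [Nat.card_congr (QuotientGroup.quotientKerEquivOfSurjective ψ hψ).toEquiv, hScard, hXcard] at h
    exact Nat.eq_of_mul_eq_mul_left (by norm_num : (0 : ℕ) < 3265920) (h.symm.trans (by norm_num))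
  let E : CentralThree ↥X (U) :=
    { ψ := ψ, surj := hψ, card := hψker
      central := central_of_card_three ψ hψ hψker (by rw [hXcard]; norm_num)
      R := R0 }
  let F : FSetting ↥X (U) (ι → ZMod 2) :=
    { E := E
      q := T
      B := fun a b => polar (⇑T) a b
      dbl := fun v => funext fun i => zmod2_dbl (v i)
      q_add := fun a b => by simp [polar]
      B_add := fun a b c => QuadraticMap.polar_add_left T a b c
      nondeg := fun a ha => D.nondeg.1 a ha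
      ρ := X.subtype
      ρ_add := by
        rintro ⟨g, m, rfl⟩ a b
        exact rep_add (J z) D (m : (Cn z)) a b
      ρ_q := by
        rintro ⟨g, m, rfl⟩ a
        exact rep_q (J z) D (m : (Cn z)) a
      ρ_inj := X.subtype_injective
      cardV := card_coord (J z) D hcard
      cardX := hXcard }
  exact ⟨{
    hz := hz, M := N, K := M, Mn := hNn, Kn := hMn, JM := hQN, MK := hNM, M3 := hN, iso := ⟨e⟩, Kcard := hMcard
    ι := ι, zq := zq, T := T, D := D, X2g := hX, CQ := hCQ, CN := hCN, hE := hE, card := hcard, zv := hzv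
    selfc := hCQ', ker := hker, F := F, Fq := rfl, Fρ := rfl }, rfl, rfl⟩

namespace Ctx

variable (c : Ctx z)

/-- The image of an element of the two-core. -/
def pt (x : ↥(J z)) : c.ι → ZMod 2 := c.D.π x

/-- The representation. -/
noncomputable def ρ : ↥(Cn z) →* Equiv.Perm (c.ι → ZMod 2) := rep (J z) c.D

theorem act (g : ↥(Cn z)) (x : ↥(J z)) : c.ρ g (c.pt x) = c.pt (MulAut.conjNormal g x) := rep_apply (J z) c.D g x

theorem ρ_add (g : ↥(Cn z)) (a b : c.ι → ZMod 2) : c.ρ g (a + b) = c.ρ g a + c.ρ g b := rep_add (J z) c.D g a b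

theorem ρ_q (g : ↥(Cn z)) (a : c.ι → ZMod 2) : c.F.q (c.ρ g a) = c.F.q a := by
  rw [c.Fq]; exact rep_q (J z) c.D g a

theorem ρ_B (g : ↥(Cn z)) (a b : c.ι → ZMod 2) : c.F.B (c.ρ g a) (c.ρ g b) = c.F.B a b := by
  have h := c.F.q_add (c.ρ g a) (c.ρ g b)
  rw [← c.ρ_add, c.ρ_q, c.ρ_q, c.ρ_q, c.F.q_add] at h
  exact (add_left_cancel h).symm

theorem ρ_ker {g : ↥(Cn z)} : c.ρ g = 1 ↔ g ∈ J z := by
  have h : g ∈ (rep (J z) c.D).ker ↔ g ∈ J z := by rw [c.ker]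
  rwa [MonoidHom.mem_ker] at h

theorem JK : J z ≤ c.K := c.JM.trans c.MK

/-- The image of an element of `K`. -/
noncomputable def toX (k : ↥(Cn z)) (hk : k ∈ c.K) : ↥((rep (J z) c.D).comp c.K.subtype).range := ⟨_, ⟨k, hk⟩, rfl⟩

theorem toX_apply (k : ↥(Cn z)) (hk : k ∈ c.K) (v : c.ι → ZMod 2) : c.F.ρ (c.toX k hk) v = c.ρ k v := by
  rw [c.Fρ]; rfl

theorem exists_lift (x : ↥((rep (J z) c.D).comp c.K.subtype).range) :
    ∃ k : ↥(Cn z), ∃ hk : k ∈ c.K, c.toX k hk = x ∧ c.F.ρ x = c.ρ k := by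
  obtain ⟨⟨k, hk⟩, he⟩ := x.2
  exact ⟨k, hk, Subtype.ext he, by rw [c.Fρ]; exact he.symm⟩

theorem mem_K_of {g k : ↥(Cn z)} (hk : k ∈ c.K) (he : c.ρ g = c.ρ k) : g ∈ c.K := by
  have h1 : g * k⁻¹ ∈ c.K := c.JK (c.ρ_ker.mp (by rw [map_mul, map_inv, he, mul_inv_cancel]))
  simpa using mul_mem h1 hk

theorem lift (v : c.ι → ZMod 2) (hv : c.F.q v = 0) (hv0 : v ≠ 0) :
    ∃ x : ↥(J z), c.pt x = v ∧ orderOf (x : ↥(Cn z)) = 2 ∧ ((x : ↥(Cn z)) : G) ≠ z := by
  haveI : Fact (Nat.Prime 2) := ⟨Nat.prime_two⟩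
  obtain ⟨x, rfl⟩ := c.D.surj v
  rw [c.Fq] at hv
  have hx1 : x * x = 1 := by rw [mul_self_eq c.D.es, ← c.D.hT, hv, Cfsg.Lib.ExtraOut.pw_zero]
  refine ⟨x, rfl, orderOf_eq_prime (by rw [pow_two]; exact congrArg Subtype.val hx1) fun e => hv0 ?_, fun e => hv0 ?_⟩
  · rw [show x = 1 from Subtype.ext e, c.D.π_one]
  · rw [show x = c.zq from Subtype.ext (Subtype.ext (e.trans c.zv.symm)), c.D.π_z]

theorem sing {x : ↥(Cn z)} (hxQ : x ∈ J z) (hx2 : orderOf x = 2) (hxz : (x : G) ≠ z) :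
    c.F.q (c.pt ⟨x, hxQ⟩) = 0 ∧ c.pt ⟨x, hxQ⟩ ≠ 0 := by
  have hx1 : x ≠ 1 := fun e => by rw [e, orderOf_one] at hx2; norm_num at hx2
  refine ⟨?_, fun e => ?_⟩
  · rw [c.Fq, pt, c.D.hT]
    exact if_pos (Subtype.ext (by show x * x = 1; rw [← pow_two, ← hx2, pow_orderOf_eq_one]))
  · rcases center_cases c.D.es ((c.D.ker ⟨x, hxQ⟩).mp e) with r | r
    · exact hx1 (congrArg Subtype.val r)
    · exact hxz ((congrArg (fun w : ↥(J z) => ((w : ↥(Cn z)) : G)) r).trans c.zv)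

theorem swap (x y : ↥(J z)) (he : c.pt x = c.pt y) (hxz : ((x : ↥(Cn z)) : G) ≠ z) (hx1 : (x : ↥(Cn z)) ≠ 1) :
    ∃ q : ↥(Cn z), q ∈ J z ∧ q * x * q⁻¹ = y := by
  rcases center_cases c.D.es (c.D.eq_iff.mp he) with h | h
  · exact ⟨1, one_mem _, by rw [one_mul, inv_one, mul_one, inv_mul_eq_one.mp h]⟩
  · obtain ⟨q, ⟨q', hq', rfl⟩, hqx⟩ := c.X2g.exists_swap (x := ((x : ↥(Cn z)) : G)) ⟨_, x.2, rfl⟩ (fun hx => by
      rcases (mem_zpowers_two c.X2g.zz).mp hx with e | e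
      · exact hx1 (Subtype.ext e)
      · exact hxz e)
    refine ⟨q', hq', Subtype.ext (hqx.trans ?_)⟩
    rw [inv_mul_eq_iff_eq_mul] at h
    rw [h, Subgroup.coe_mul, Subgroup.coe_mul, c.zv]
    exact (c.X2g.central _ ⟨_, x.2, rfl⟩).eq.symm

include c in
theorem conj_ne (g : ↥(Cn z)) {x : ↥(J z)} (hxz : ((x : ↥(Cn z)) : G) ≠ z) (hx1 : (x : ↥(Cn z)) ≠ 1) :
    ((MulAut.conjNormal g x : ↥(J z)) : ↥(Cn z)) ≠ 1 ∧ (((MulAut.conjNormal g x : ↥(J z)) : ↥(Cn z)) : G) ≠ z := by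
  refine ⟨fun e => hx1 ?_, fun e => hxz ?_⟩
  · rw [MulAut.conjNormal_apply] at e
    exact conj_eq_one_iff.mp e
  · have h := congrArg (fun w : G => (g : G)⁻¹ * w * (g : G)) e
    simp [MulAut.conjNormal_apply, mul_assoc] at h
    rw [h, ← mem_centralizer_singleton_iff.mp g.2, inv_mul_cancel_left]

theorem conj_of_rep (g : ↥(Cn z)) (x y : ↥(J z)) (he : c.ρ g (c.pt x) = c.pt y) (hxz : ((x : ↥(Cn z)) : G) ≠ z)
    (hx1 : (x : ↥(Cn z)) ≠ 1) : ∃ h : ↥(Cn z), h * x * h⁻¹ = y ∧ c.ρ h = c.ρ g ∧ (g ∈ c.K → h ∈ c.K) := by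
  obtain ⟨q, hq, hq'⟩ := c.swap _ _ ((c.act g x).symm.trans he) (c.conj_ne g hxz hx1).2 (c.conj_ne g hxz hx1).1
  refine ⟨q * g, by rw [← hq', MulAut.conjNormal_apply]; group, ?_, fun hg => mul_mem (c.JK hq) hg⟩
  rw [map_mul, (c.ρ_ker.mpr hq : c.ρ q = 1), one_mul]

/-- The part of a conjugate of the two-core inside the centraliser. -/
def RC (_ : Ctx z) (g : G) : Subgroup ↥(Cn z) :=
  ((Jg z).map (MulAut.conj g).toMonoidHom ⊓ Cn z).subgroupOf (Cn z)

theorem mem_RC {g : G} {r : ↥(Cn z)} : r ∈ c.RC g ↔ g⁻¹ * (r : G) * g ∈ Jg z := by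
  constructor
  · intro h
    exact mem_map_conj.mp h.1
  · intro h
    exact ⟨mem_map_conj.mpr h, r.2⟩

theorem RC_card {g : G} {x : ↥(J z)} (hg : g * z * g⁻¹ = ((x : ↥(Cn z)) : G)) (hxz : ((x : ↥(Cn z)) : G) ≠ z) :
    Nat.card ↥(c.RC g) = 2 ^ 12 := by
  haveI : Fact (Nat.Prime 2) := ⟨Nat.prime_two⟩
  set Qg := Jg z with hQg
  have hcardg : Nat.card ↥Qg = 2 ^ 13 := by
    rw [hQg, card_map_of_injective (Cn z).subtype_injective, c.card]
  have hzQ' : g⁻¹ * z * g ∈ Qg := mem_conj_of_mem c.X2g c.CQ c.CN (by rw [hcardg]; norm_num)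
    (by rw [hg]; exact ⟨_, x.2, rfl⟩) (by rw [hg]; exact hxz)
  have hX' : X2 (Qg.map (MulAut.conj g).toMonoidHom) ((x : ↥(Cn z)) : G) := hg ▸ c.X2g.conj g
  set Q' := Qg.map (MulAut.conj g).toMonoidHom with hQ'
  have hQ'card : Nat.card ↥Q' = 2 ^ 13 := by
    rw [hQ', card_map_of_injective (MulAut.conj g).injective, hcardg]
  have hge := card_centralizing hX' (mem_map_conj.mpr hzQ')
  have hne : Q' ⊓ centralizer ({z} : Set G) ≠ Q' := fun e => by
    rcases hX'.cen z (mem_map_conj.mpr hzQ') (fun a ha => mem_centralizer_singleton_iff.mp (e.ge ha).2) with h | h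
    · exact c.X2g.ne h
    · exact hxz h.symm
  have hd := card_dvd_of_le (inf_le_left : Q' ⊓ centralizer ({z} : Set G) ≤ Q')
  rw [hQ'card] at hd hge
  obtain ⟨n, hn, hn'⟩ := (Nat.dvd_prime_pow Nat.prime_two).mp hd
  show Nat.card ↥((Q' ⊓ centralizer ({z} : Set G)).subgroupOf (Cn z)) = _
  rw [Nat.card_congr (subgroupOfEquivOfLe (inf_le_right : Q' ⊓ centralizer ({z} : Set G) ≤ _)).toEquiv, hn']
  rw [hn'] at hge
  have h13 : n ≠ 13 := fun e => hne (eq_of_le_of_card_ge inf_le_left (by rw [hQ'card, hn', e]))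
  congr 1
  interval_cases n <;> first | omega | norm_num at hge

theorem RC_inter {g : G} {x : ↥(J z)} (hg : g * z * g⁻¹ = ((x : ↥(Cn z)) : G)) (hxz : ((x : ↥(Cn z)) : G) ≠ z) :
    Nat.card ↥(c.RC g ⊓ J z) ≤ 2 ^ 7 ∧ ∀ a ∈ c.RC g ⊓ J z, ∀ b ∈ c.RC g ⊓ J z, a * b = b * a := by
  have hX' : X2 ((Jg z).map (MulAut.conj g).toMonoidHom) ((x : ↥(Cn z)) : G) :=
    hg ▸ c.X2g.conj g
  have hcomm : ∀ a ∈ c.RC g ⊓ J z, ∀ b ∈ c.RC g ⊓ J z, a * b = b * a := fun a ha b hb => Subtype.ext (by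
    show (a : G) * (b : G) = (b : G) * (a : G)
    have h1 := c.X2g.comm _ ⟨a, ha.2, rfl⟩ _ ⟨b, hb.2, rfl⟩
    have h2 := hX'.comm _ (ha.1.1) _ (hb.1.1)
    refine commutatorElement_eq_one_iff_mul_comm.mp (h1.resolve_right fun e1 => ?_)
    rcases h2 with e2 | e2
    · exact c.X2g.ne (e1.symm.trans e2)
    · exact hxz (e2.symm.trans e1))
  exact ⟨abelian_bound c.hE c.card inf_le_right hcomm, hcomm⟩

theorem RC_isP (g : G) : IsPGroup 2 ↥(c.RC g) :=
  (((c.X2g.conj g).isP).to_le inf_le_left).comap_subtype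

theorem RC_conj {g : G} {x : ↥(J z)} (hg : g * z * g⁻¹ = ((x : ↥(Cn z)) : G)) {h r : ↥(Cn z)} (hh : h * (x : ↥(Cn z)) * h⁻¹ = (x : ↥(Cn z)))
    (hr : r ∈ c.RC g) : h * r * h⁻¹ ∈ c.RC g := by
  have hcs : (h : G) ∈ centralizer ({((x : ↥(Cn z)) : G)} : Set G) :=
    mem_centralizer_singleton_iff.mpr (congrArg Subtype.val (mul_inv_eq_iff_eq_mul.mp hh))
  rw [← hg] at hcs
  exact ⟨(mem_normalizer_iff.mp (conj_norm c.CN g hcs) _).mp hr.1, (h * r * h⁻¹ : ↥(Cn z)).2⟩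

theorem RC_fix {g : G} {x : ↥(J z)} (hg : g * z * g⁻¹ = ((x : ↥(Cn z)) : G)) {r : ↥(Cn z)} (hr : r ∈ c.RC g) :
    r * (x : ↥(Cn z)) * r⁻¹ = (x : ↥(Cn z)) := by
  have hX' : X2 ((Jg z).map (MulAut.conj g).toMonoidHom) ((x : ↥(Cn z)) : G) :=
    hg ▸ c.X2g.conj g
  exact Subtype.ext (mul_inv_eq_iff_eq_mul.mpr (hX'.central _ (hr.1)).eq)

theorem card_map_rep (K : Subgroup ↥(Cn z)) :
    Nat.card ↥K = Nat.card ↥(K.map (c.ρ)) * Nat.card ↥(K ⊓ J z) := by
  have h := card_eq_card_quotient_mul_card_subgroup ((rep (J z) c.D).comp K.subtype).ker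
  rw [Nat.card_congr (QuotientGroup.quotientKerEquivRange _).toEquiv, MonoidHom.range_comp, range_subtype,
    ← MonoidHom.comap_ker, c.ker] at h
  rw [h]
  congr 1
  rw [← card_map_of_injective K.subtype_injective]
  exact congrArg (fun H : Subgroup ↥(Cn z) => Nat.card ↥H) (map_comap_eq _ _ |>.trans (by rw [range_subtype]))

end Ctx

end Cfsg.Lib.FiLargest
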