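import Cfsg.Agent.FiLargest.Residual
import Cfsg.Agent.InvolCalc.LargeTransfer.Invol

/-!
A transfer argument: a normal subgroup equal to its residual has no subgroup of index two in the centraliser containing
all intersections with conjugates of the core.
-/

set_option autoImplicit false
set_option maxRecDepth 100000
set_option maxHeartbeats 1000000
set_option linter.unusedSectionVars false
set_option linter.style.haveILetI false

namespace Cfsg.Lib.FiLargest

open Subgroup
open Cfsg.Lib.LargeExtra (X2 mem_conj_of_mem)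
open Cfsg.Lib.LargeExtra.OutExtra
open Cfsg.Lib.LargeFischer (rep FSetting card_modEq_fixed)
open scoped commutatorElement

universe u

namespace Ctx

variable {G : Type u} [Group G] [Finite G] {z : G} (c : Ctx z)

include c in
/-- An element outside the two-core centralises less than a subgroup of index two of it. -/
theorem no_half (t : ↥(Cn z)) (ht : t ∉ J z) (S : Subgroup ↥(J z))
    (hS : ∀ y ∈ S, t * (y : ↥(Cn z)) * t⁻¹ = (y : ↥(Cn z))) : Nat.card S < 4096 := by
  classical
  haveI : Fact (Nat.Prime 2) := ⟨Nat.prime_two⟩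
  haveI : Fact (Nat.Prime 3) := ⟨by norm_num⟩
  let d1 : (c.ι → ZMod 2) →+ (c.ι → ZMod 2) := AddMonoidHom.id _ + AddMonoidHom.mk' (c.ρ t) (c.ρ_add t)
  let W := d1.ker
  have hW : ∀ v, v ∈ W ↔ c.ρ t v = v := fun v => by
    show v + c.ρ t v = 0 ↔ _
    constructor
    · intro h
      have := congrArg (· + v) h
      simp only [zero_add] at this
      rw [add_comm v, add_assoc, c.F.dbl, add_zero] at this
      exact this
    · intro h; rw [h, c.F.dbl]
  have hSW : S ≤ c.pre W := fun y hy => by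
    refine (hW _).mpr ?_
    rw [c.act]
    exact congrArg c.pt (Subtype.ext (by rw [MulAut.conjNormal_apply]; exact hS y hy))
  have h1 : Nat.card S ≤ 2 * Nat.card W := (Nat.le_of_dvd Nat.card_pos (Subgroup.card_dvd_of_le hSW)).trans_eq
    (c.pre_card W)
  suffices h : Nat.card W < 2048 by omega
  obtain ⟨k, hk, hWk⟩ : ∃ k ≤ 12, Nat.card W = 2 ^ k := by
    have hd : Nat.card W ∣ 2 ^ 12 := by
      have := W.card_addSubgroup_dvd_card
      rwa [c.F.cardV] at this
    exact (Nat.dvd_prime_pow Nat.prime_two).mp hd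
  have hne : W ≠ ⊤ := fun e => ht (c.ρ_ker.mp (Equiv.ext fun v => (hW v).mp (e ▸ AddSubgroup.mem_top v)))
  rw [hWk]
  by_contra hlt
  have h11 : 11 ≤ k := by
    by_contra h'
    have := Nat.pow_le_pow_right (show 1 ≤ 2 by norm_num) (show k ≤ 10 by omega)
    omega
  rcases (show k = 11 ∨ k = 12 by omega) with rfl | rfl
  · rcases c.lin_or t with hl | hs
    · have hWom : ∀ v ∈ W, c.F.om v ∈ W := fun v hv => (hW _).mpr (by rw [hl, (hW v).mp hv])
      let τ : Equiv.Perm W := Equiv.ofBijective (fun a : W => (⟨c.F.om a.1, hWom a.1 a.2⟩ : W))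
        (Finite.injective_iff_bijective.mp fun a b e => Subtype.ext (c.om_inj (congrArg Subtype.val e)))
      have hτ : τ ^ 3 = 1 := Equiv.ext fun a => Subtype.ext (by
        simp only [pow_succ, pow_zero, one_mul, Equiv.Perm.mul_apply, Equiv.Perm.one_apply]
        exact c.om_three a.1)
      have h := card_modEq_fixed τ hτ
      haveI : Unique {a : W // τ a = a} :=
        { default := ⟨0, Subtype.ext (map_zero c.F.om)⟩
          uniq := fun a => Subtype.ext (Subtype.ext (c.om_fix (congrArg Subtype.val a.2))) }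
      rw [hWk, Nat.card_unique] at h
      norm_num at h
    · have hfix : ∀ v ∈ W, c.F.om v ∈ W → v = 0 := fun v hv hv' => by
        have h := (hW _).mp hv'
        rw [hs, (hW v).mp hv] at h
        exact c.om_fix (c.om_inj h)
      let f : W × W → (c.ι → ZMod 2) := fun p => p.1.1 + c.F.om p.2.1
      have hf : Function.Injective f := by
        rintro ⟨a, b⟩ ⟨a', b'⟩ e
        have e1 : c.F.om (b.1 - b'.1) = a'.1 - a.1 := by
          rw [map_sub, sub_eq_sub_iff_add_eq_add, add_comm (c.F.om b.1)]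
          exact e
        have e2 := hfix _ (sub_mem b.2 b'.2) (e1 ▸ sub_mem a'.2 a.2)
        rw [e2, map_zero, eq_comm, sub_eq_zero] at e1
        exact Prod.ext (Subtype.ext e1.symm) (Subtype.ext (sub_eq_zero.mp e2))
      have h := Nat.card_le_card_of_injective f hf
      rw [Nat.card_prod, hWk, c.F.cardV] at h
      norm_num at h
  · exact hne (AddSubgroup.eq_top_of_card_eq W (by rw [hWk, c.F.cardV]; norm_num))

variable (N : Subgroup G) [N.Normal] (hJN : Jg z ≤ N)

include c hJN

/-- No subgroup of index two contains all the intersections. -/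
theorem transfer_false (hres : Cfsg.pResidual 2 ↥N = ⊤) (H : Subgroup ↥(Cn z))
    (hH : H.relIndex (N.subgroupOf (Cn z)) = 2)
    (hflat : ∀ g ∈ N, ∀ x : ↥(J z), g * z * g⁻¹ = ((x : ↥(Cn z)) : G) → ((x : ↥(Cn z)) : G) ≠ z →
      ∀ r ∈ c.RC g, (r : G) ∈ N → r ∈ H) : False := by
  classical
  haveI : Fact (Nat.Prime 2) := ⟨Nat.prime_two⟩
  haveI := Fintype.ofFinite ↥N
  let z1 : ↥N := ⟨z, hJN c.X2g.mem⟩
  set E : Subgroup ↥N := (Jg z).subgroupOf N with hE
  have hcomm : ∀ {a : ↥N}, Commute a z1 ↔ (a : G) ∈ Cn z := fun {a} =>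
    ⟨fun h => mem_centralizer_singleton_iff.mpr (congrArg Subtype.val h.eq),
      fun h => Subtype.ext (mem_centralizer_singleton_iff.mp h)⟩
  have hC1 : centralizer ({z1} : Set ↥N) = (Cn z).subgroupOf N := by
    ext a
    rw [mem_centralizer_singleton_iff, mem_subgroupOf]
    exact hcomm
  have hJcard : Nat.card ↥(Jg z) = 8192 := by
    rw [card_map_of_injective (Cn z).subtype_injective, c.card]; norm_num
  have hEcard : Nat.card ↥E = 8192 := by rw [hE, Nat.card_congr (subgroupOfEquivOfLe hJN).toEquiv, hJcard]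
  have hX := c.X2g
  have V : Cfsg.Lib.LargeTransfer.Env E z1 := by
    refine ⟨⟨hX.mem, fun e => hX.ne (congrArg Subtype.val e), Subtype.ext hX.zz,
      hX.isP.comap_subtype, fun q hq => Subtype.ext (hX.central _ hq).eq, fun a ha b hb => ?_,
      fun a ha => (hX.sq _ ha).imp (fun e => Subtype.ext e) (fun e => Subtype.ext e),
      fun w hw hc => ?_⟩, fun w hw => ?_, ?_⟩
    · have e : ((⁅a, b⁆ : ↥N) : G) = ⁅(a : G), (b : G)⁆ := by simp [commutatorElement_def]
      exact (hX.comm _ ha _ hb).imp (fun h => Subtype.ext (e.trans h)) (fun h => Subtype.ext (e.trans h))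
    · exact (hX.cen _ hw fun a ha => congrArg Subtype.val (hc ⟨a, hJN ha⟩ ha).eq).imp
        (fun e => Subtype.ext e) (fun e => Subtype.ext e)
    · exact c.CQ (mem_centralizer_iff.mpr fun a ha =>
        congrArg Subtype.val (mem_centralizer_iff.mp hw ⟨a, hJN ha⟩ ha))
    · rw [hC1]
      intro w hw
      rw [mem_normalizer_iff]
      intro v
      exact mem_normalizer_iff.mp (c.CN hw) (v : G)
  let H' : Subgroup ↥N := (H.map (Cn z).subtype).subgroupOf N
  have hH' : H'.relIndex (centralizer ({z1} : Set ↥N)) = 2 := by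
    show ((H.map (Cn z).subtype).comap N.subtype).relIndex _ = 2
    rw [relIndex_comap, hC1, subgroupOf_map_subtype]
    rw [show Cn z ⊓ N = (N.subgroupOf (Cn z)).map (Cn z).subtype by rw [subgroupOf_map_subtype, inf_comm],
      relIndex_map_map_of_injective _ _ (Cn z).subtype_injective]
    exact hH
  have L := Cfsg.Lib.LargeTransfer.lin_of hres hH'
  have hflat' : Cfsg.Lib.LargeTransfer.Flat E z1 (Cfsg.Lib.LargeTransfer.chiOf H') := by
    intro q hq hc hne _ f hf hfq
    have hspec := Cfsg.Lib.LargeTransfer.rep_spec hc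
    have hr := Cfsg.Lib.LargeTransfer.comm_rep hc hfq
    refine Cfsg.Lib.LargeTransfer.chiOf_eq_zero.mpr ?_
    show (((Cfsg.Lib.LargeTransfer.rep z1 q)⁻¹ * f * Cfsg.Lib.LargeTransfer.rep z1 q : ↥N) : G) ∈ H.map (Cn z).subtype
    set g := Cfsg.Lib.LargeTransfer.rep z1 q with hg
    have hgG : (g : G) * z * (g : G)⁻¹ = (q : G) := congrArg (fun w : ↥N => (w : G)) hspec
    have hqz : (g : G) * z * (g : G)⁻¹ ≠ z := fun e => hne (Subtype.ext (hgG.symm.trans e))
    obtain ⟨x, hx, hxe⟩ := mem_conj_of_mem c.X2g c.CQ c.CN (by rw [hJcard]; norm_num) (g := (g : G))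
      (by rw [hgG]; exact hq) hqz
    have hxz : ((x : ↥(Cn z)) : G) ≠ z := fun e => hqz (by
      have h1 : (g : G)⁻¹ * z * (g : G) = z := hxe.symm.trans e
      calc (g : G) * z * (g : G)⁻¹ = (g : G) * ((g : G)⁻¹ * z * (g : G)) * (g : G)⁻¹ := by rw [h1]
        _ = z := by group)
    refine ⟨⟨_, hcomm.mp hr⟩, hflat (g : G)⁻¹ (inv_mem g.2) ⟨x, hx⟩ ?_ hxz _ ?_ ((g⁻¹ * f * g : ↥N)).2, rfl⟩
    · rw [inv_inv]; exact hxe.symm
    · rw [c.mem_RC]
      simp only [Subgroup.coe_mul, Subgroup.coe_inv]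
      rw [show (g : G)⁻¹⁻¹ * ((g : G)⁻¹ * (f : G) * (g : G)) * (g : G)⁻¹ = (f : G) by group]
      exact hf
  obtain ⟨t, htz, htt, ht⟩ := Cfsg.Lib.LargeTransfer.exists_invol V L (by omega) (fun _ => hflat')
    (Cfsg.Lib.LargeTransfer.exists_outside hH')
  have hlow : ∀ (g : ↥N) (k : ℕ), 2 ≤ k → k ∣ orderOf t → Commute (g⁻¹ * t ^ k * g) z1 →
      Cfsg.Lib.LargeTransfer.chiOf H' (g⁻¹ * t ^ k * g) = 0 := by
    intro g k h2 hk _
    have : orderOf t ∣ 2 := orderOf_dvd_of_pow_eq_one (by rw [pow_two, htt])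
    have hk2 : k = 2 := le_antisymm (Nat.le_of_dvd two_pos (hk.trans this)) h2
    rw [hk2, pow_two, htt, mul_one, inv_mul_cancel, L.one]
  refine one_ne_zero (ht.symm.trans (Cfsg.Lib.LargeTransfer.total V L htz hlow fun q O => ?_))
  by_cases h2 : (Cfsg.Lib.LargeTransfer.orb E q).card = 2
  · refine O.sum_two h2 (hflat' q ?_ O.cj O.cne h2)
    by_contra hqE
    have hfc : (Cfsg.Lib.LargeTransfer.fc E q).card = 4096 := by
      have h := Cfsg.Lib.LargeTransfer.card_orb_fc E q
      rw [h2, hEcard] at h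
      omega
    let qC : ↥(Cn z) := ⟨(q : G), hcomm.mp O.cz⟩
    let S : Subgroup ↥(J z) := (centralizer ({(q : G)} : Set G)).comap ((Cn z).subtype.comp (J z).subtype)
    have hlt := c.no_half qC (fun hq => hqE ⟨qC, hq, rfl⟩) S fun y hy => Subtype.ext (by
      have h : ((y : ↥(Cn z)) : G) * (q : G) = (q : G) * ((y : ↥(Cn z)) : G) := mem_centralizer_singleton_iff.mp hy
      show (q : G) * ((y : ↥(Cn z)) : G) * (q : G)⁻¹ = _
      rw [← h, mul_inv_cancel_right])
    have hle : (Cfsg.Lib.LargeTransfer.fc E q).card ≤ Nat.card S := by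
      have hpre : ∀ e : {e // e ∈ Cfsg.Lib.LargeTransfer.fc E q}, ∃ y : S, ((y.1 : ↥(Cn z)) : G) = (e.1 : G) := by
        rintro ⟨e, he⟩
        obtain ⟨he1, he2⟩ := Cfsg.Lib.LargeTransfer.mem_fc.mp he
        obtain ⟨y, hy, hye⟩ := he1
        refine ⟨⟨⟨y, hy⟩, mem_centralizer_singleton_iff.mpr ?_⟩, hye⟩
        show (y : G) * (q : G) = (q : G) * (y : G)
        rw [show (y : G) = (e : G) from hye]
        exact congrArg Subtype.val he2.eq
      choose φ hφ using hpre
      rw [← Fintype.card_coe, ← Nat.card_eq_fintype_card]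
      exact Nat.card_le_card_of_injective φ fun a b h =>
        Subtype.ext (Subtype.ext (by rw [← hφ a, ← hφ b, h]))
    omega
  obtain ⟨i, hi⟩ := O.orb_pow
  by_cases h8 : 8 ≤ (Cfsg.Lib.LargeTransfer.orb E q).card
  · exact O.sum_large htt h8
  have h4 : (Cfsg.Lib.LargeTransfer.orb E q).card ≤ 4 := by
    rw [hi] at h8 ⊢
    rcases i with - | - | - | i <;> simp [pow_succ] at h8 ⊢
    omega
  obtain ⟨a, ha, b, hb, hac, hbc, hn⟩ := V.noncomm_stab (c := q)
    (lt_of_le_of_lt (Nat.mul_le_mul (Nat.pow_le_pow_right (by norm_num) h4) h4) (by rw [hEcard]; norm_num))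
  refine O.sum_small (m := 1) (by rw [pow_one, pow_two, htt])
    (Cfsg.Lib.LargeTransfer.tw_z_zero V L O.cj O.cz ha hb hac hbc hn) (fun g _ => ?_) h2
  rw [htt, mul_one, inv_mul_cancel, L.one]

end Ctx

end Cfsg.Lib.FiLargest
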